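import Mathlib

set_option autoImplicit false

namespace Cfsg.Agent.Lib.Helper5

open MulAction

/-- A transitive action on a nonempty set has exactly one orbit. -/
theorem card_orbits_eq_one {G Ω : Type*} [Group G] [MulAction G Ω] [Nonempty Ω]
    (h : IsPretransitive G Ω) : Nat.card (orbitRel.Quotient G Ω) = 1 := by
  have h1 := (pretransitive_iff_subsingleton_quotient G Ω).mp h
  have hne : Nonempty (orbitRel.Quotient G Ω) := ‹Nonempty Ω›.map (Quotient.mk _)
  exact Nat.card_eq_one_iff_unique.mpr ⟨h1, hne⟩

/-- Burnside's lemma with `Nat.card`. -/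
theorem burnside_natCard (G Ω : Type*) [Group G] [Fintype G] [MulAction G Ω] [Finite Ω] :
    ∑ g : G, Nat.card (fixedBy Ω g) = Nat.card (orbitRel.Quotient G Ω) * Nat.card G := by
  classical
  have := Fintype.ofFinite Ω
  have h := sum_card_fixedBy_eq_card_orbits_mul_card_group G Ω
  simp only [Nat.card_eq_fintype_card]
  exact h

/-- Sum over a subgroup as a filtered sum. -/
theorem sum_subgroup_eq_filter {G : Type*} [Group G] [Fintype G] (D : Subgroup G)
    [DecidablePred (· ∈ D)] [Fintype D] (F : G → ℕ) :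
    ∑ d : D, F d = ∑ g ∈ Finset.univ.filter (· ∈ D), F g :=
  (Finset.sum_subtype (Finset.univ.filter (· ∈ D)) (by simp) F).symm

/-- Core counting lemma for the subgroup generated by derangements: any subgroup `D` containing
all fixed-point-free elements of a transitive group is transitive, and the elements outside `D`
have exactly one fixed point. -/
theorem derangement_core {G Ω : Type*} [Group G] [Finite G] [MulAction G Ω] [Finite Ω] [Nonempty Ω]
    (htrans : IsPretransitive G Ω) (D : Subgroup G)
    (hD : ∀ g : G, (∀ ω : Ω, g • ω ≠ ω) → g ∈ D) :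
    IsPretransitive D Ω ∧ ∀ g : G, g ∉ D → Nat.card (fixedBy Ω g) = 1 := by
  classical
  have := Fintype.ofFinite G
  set F : G → ℕ := fun g => Nat.card (fixedBy Ω g) with hF
  have hG : ∑ g : G, F g = Nat.card G := by
    rw [burnside_natCard G Ω, card_orbits_eq_one htrans, one_mul]
  have hDsum : ∑ g ∈ Finset.univ.filter (· ∈ D), F g =
      Nat.card (orbitRel.Quotient D Ω) * Nat.card D := by
    rw [← burnside_natCard D Ω, ← sum_subgroup_eq_filter D F]
    rfl
  have hsplit : ∑ g : G, F g = ∑ g ∈ Finset.univ.filter (· ∈ D), F g +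
      ∑ g ∈ Finset.univ.filter (fun g => ¬ g ∈ D), F g :=
    (Finset.sum_filter_add_sum_filter_not Finset.univ (· ∈ D) F).symm
  have hout : ∀ g ∈ Finset.univ.filter (fun g => ¬ g ∈ D), 1 ≤ F g := by
    intro g hg
    rw [Finset.mem_filter] at hg
    have h1 : ¬ ∀ ω : Ω, g • ω ≠ ω := fun h => hg.2 (hD g h)
    push Not at h1
    obtain ⟨ω, hω⟩ := h1
    have : Nonempty (fixedBy Ω g) := ⟨⟨ω, hω⟩⟩
    exact Nat.card_pos
  have hcardout : (Finset.univ.filter (fun g => ¬ g ∈ D)).card + Nat.card D = Nat.card G := by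
    have h1 := Finset.card_filter_add_card_filter_not (s := (Finset.univ : Finset G)) (· ∈ D)
    have h2 : (Finset.univ.filter (· ∈ D)).card = Nat.card D := by
      rw [Nat.card_eq_fintype_card, Fintype.card_subtype]
    rw [Finset.card_univ, ← Nat.card_eq_fintype_card, h2] at h1
    omega
  have hge : (Finset.univ.filter (fun g => ¬ g ∈ D)).card ≤
      ∑ g ∈ Finset.univ.filter (fun g => ¬ g ∈ D), F g := by
    calc (Finset.univ.filter (fun g => ¬ g ∈ D)).card
        = ∑ g ∈ Finset.univ.filter (fun g => ¬ g ∈ D), 1 := by simp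
      _ ≤ _ := Finset.sum_le_sum hout
  have hDpos : 0 < Nat.card D := Nat.card_pos
  have hq1 : 0 < Nat.card (orbitRel.Quotient D Ω) := by
    have : Nonempty (orbitRel.Quotient D Ω) := ‹Nonempty Ω›.map (Quotient.mk _)
    exact Nat.card_pos
  have hq : Nat.card (orbitRel.Quotient D Ω) = 1 := by
    have h3 : Nat.card (orbitRel.Quotient D Ω) * Nat.card D ≤ 1 * Nat.card D := by
      rw [one_mul]; omega
    have h4 := Nat.le_of_mul_le_mul_right h3 hDpos
    omega
  refine ⟨(pretransitive_iff_subsingleton_quotient D Ω).mpr (Nat.card_eq_one_iff_unique.mp hq).1, ?_⟩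
  intro g hg
  by_contra hne
  have hgmem : g ∈ Finset.univ.filter (fun g => ¬ g ∈ D) := by simp [hg]
  have h5 : 1 < F g := lt_of_le_of_ne (hout g hgmem) (Ne.symm hne)
  have h6 : ∑ g ∈ Finset.univ.filter (fun g => ¬ g ∈ D), 1 <
      ∑ g ∈ Finset.univ.filter (fun g => ¬ g ∈ D), F g :=
    Finset.sum_lt_sum hout ⟨g, hgmem, h5⟩
  rw [hq, one_mul] at hDsum
  simp only [Finset.sum_const, smul_eq_mul, mul_one] at h6
  omega

/-- Burnside's lemma split along a subgroup outside of which every element has exactly one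
fixed point. -/
theorem burnside_subgroup_split {G X : Type*} [Group G] [Finite G] [MulAction G X] [Finite X]
    (D : Subgroup G) (hout : ∀ g : G, g ∉ D → Nat.card (fixedBy X g) = 1) :
    Nat.card (orbitRel.Quotient G X) * Nat.card G =
      Nat.card (orbitRel.Quotient D X) * Nat.card D + (Nat.card G - Nat.card D) := by
  classical
  have := Fintype.ofFinite G
  set F : G → ℕ := fun g => Nat.card (fixedBy X g) with hF
  have hG : ∑ g : G, F g = Nat.card (orbitRel.Quotient G X) * Nat.card G := burnside_natCard G X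
  have hDsum : ∑ g ∈ Finset.univ.filter (· ∈ D), F g =
      Nat.card (orbitRel.Quotient D X) * Nat.card D := by
    rw [← burnside_natCard D X, ← sum_subgroup_eq_filter D F]
    rfl
  have hsplit : ∑ g : G, F g = ∑ g ∈ Finset.univ.filter (· ∈ D), F g +
      ∑ g ∈ Finset.univ.filter (fun g => ¬ g ∈ D), F g :=
    (Finset.sum_filter_add_sum_filter_not Finset.univ (· ∈ D) F).symm
  have hcardout : (Finset.univ.filter (fun g => ¬ g ∈ D)).card + Nat.card D = Nat.card G := by
    have h1 := Finset.card_filter_add_card_filter_not (s := (Finset.univ : Finset G)) (· ∈ D)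
    have h2 : (Finset.univ.filter (· ∈ D)).card = Nat.card D := by
      rw [Nat.card_eq_fintype_card, Fintype.card_subtype]
    rw [Finset.card_univ, ← Nat.card_eq_fintype_card, h2] at h1
    omega
  have hsumout : ∑ g ∈ Finset.univ.filter (fun g => ¬ g ∈ D), F g =
      (Finset.univ.filter (fun g => ¬ g ∈ D)).card := by
    rw [Finset.card_eq_sum_ones]
    apply Finset.sum_congr rfl
    intro g hg
    rw [Finset.mem_filter] at hg
    exact hout g hg.2
  rw [← hG, hsplit, hDsum, hsumout]
  omega

/-- The number of fixed points on pairs is the square of the number of fixed points. -/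
theorem card_fixedBy_prod {G Ω : Type*} [Group G] [MulAction G Ω] [Finite Ω] (g : G) :
    Nat.card (fixedBy (Ω × Ω) g) = Nat.card (fixedBy Ω g) ^ 2 := by
  have e : fixedBy (Ω × Ω) g ≃ fixedBy Ω g × fixedBy Ω g :=
    { toFun := fun p => (⟨p.1.1, congrArg Prod.fst p.2⟩, ⟨p.1.2, congrArg Prod.snd p.2⟩)
      invFun := fun q => ⟨(q.1.1, q.2.1), Prod.ext q.1.2 q.2.2⟩
      left_inv := fun p => rfl
      right_inv := fun q => rfl }
  rw [Nat.card_congr e, Nat.card_prod, sq]

/-- The cardinality of a finite set acted on by a group is the sum of the orbit sizes. -/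
theorem card_eq_sum_card_orbits (H X : Type*) [Group H] [MulAction H X] [Finite X]
    [Fintype (orbitRel.Quotient H X)] :
    Nat.card X = ∑ ω : orbitRel.Quotient H X, Nat.card (orbit H ω.out) := by
  rw [Nat.card_congr (selfEquivSigmaOrbits H X), Nat.card_sigma]

/-- If a group fixes a point and all other orbits have size divisible by `m`, then `m` divides
the number of points minus one. -/
theorem dvd_card_sub_one_of_orbits {H X : Type*} [Group H] [MulAction H X] [Finite X] (α : X)
    (hα : ∀ h : H, h • α = α) (m : ℕ)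
    (hm : ∀ β : X, β ≠ α → m ∣ Nat.card (orbit H β)) : m ∣ Nat.card X - 1 := by
  classical
  have := Fintype.ofFinite (orbitRel.Quotient H X)
  have hsum := card_eq_sum_card_orbits H X
  set ω₀ : orbitRel.Quotient H X := Quotient.mk'' α with hω₀
  have horb : orbit H α = {α} := by
    ext x
    simp only [mem_orbit_iff, Set.mem_singleton_iff]
    constructor
    · rintro ⟨h, rfl⟩; exact hα h
    · rintro rfl; exact ⟨1, one_smul _ _⟩
  have hout0 : (ω₀.out : X) = α := by
    have h1 : (ω₀.out : X) ∈ orbit H α := by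
      rw [← orbitRel_apply]
      exact Quotient.exact (Quotient.out_eq' ω₀)
    rw [horb] at h1
    exact h1
  have hc0 : Nat.card (orbit H ω₀.out) = 1 := by
    rw [hout0, horb]
    simp
  have hrest : ∀ ω ∈ (Finset.univ : Finset (orbitRel.Quotient H X)).erase ω₀,
      m ∣ Nat.card (orbit H ω.out) := by
    intro ω hω
    apply hm
    intro h
    apply (Finset.mem_erase.mp hω).1
    rw [hω₀, ← h]
    exact (Quotient.out_eq' ω).symm
  have h2 := Finset.add_sum_erase (Finset.univ : Finset (orbitRel.Quotient H X))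
    (fun ω => Nat.card (orbit H ω.out)) (Finset.mem_univ ω₀)
  rw [← hsum, hc0] at h2
  have h3 : Nat.card X - 1 = ∑ ω ∈ (Finset.univ : Finset (orbitRel.Quotient H X)).erase ω₀,
      Nat.card (orbit H ω.out) := by omega
  rw [h3]
  exact Finset.dvd_sum hrest

/-- The subgroup generated by the derangements is normal. -/
theorem closure_derangements_normal (G Ω : Type*) [Group G] [MulAction G Ω] :
    (Subgroup.closure {g : G | ∀ ω : Ω, g • ω ≠ ω}).Normal := by
  constructor
  intro n hn g
  refine Subgroup.closure_induction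
    (p := fun n _ => g * n * g⁻¹ ∈ Subgroup.closure {g : G | ∀ ω : Ω, g • ω ≠ ω}) ?_ ?_ ?_ ?_ hn
  · intro x hx
    apply Subgroup.subset_closure
    intro ω hω
    apply hx (g⁻¹ • ω)
    calc x • (g⁻¹ • ω) = g⁻¹ • ((g * x * g⁻¹) • ω) := by simp [mul_smul]
      _ = g⁻¹ • ω := by rw [hω]
  · simp
  · intro a b _ _ ha hb
    have h3 : g * (a * b) * g⁻¹ = (g * a * g⁻¹) * (g * b * g⁻¹) := by group
    rw [h3]; exact Subgroup.mul_mem _ ha hb
  · intro a _ ha
    have h3 : g * a⁻¹ * g⁻¹ = (g * a * g⁻¹)⁻¹ := by group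
    rw [h3]; exact Subgroup.inv_mem _ ha

/-- For a transitive normal subgroup `D`, the index of `D ∩ G_α` in `G_α` is the index of `D`. -/
theorem relIndex_stabilizer_eq_index {G Ω : Type*} [Group G] [MulAction G Ω]
    (D : Subgroup G) [D.Normal] (hD : IsPretransitive D Ω) (α : Ω) :
    D.relIndex (stabilizer G α) = D.index := by
  have hsup : stabilizer G α ⊔ D = ⊤ := by
    rw [eq_top_iff]
    intro g _
    obtain ⟨d, hd⟩ := exists_smul_eq D α (g • α)
    have h1 : (d : G)⁻¹ * g ∈ stabilizer G α := by
      rw [mem_stabilizer_iff, mul_smul, ← hd]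
      exact inv_smul_smul _ _
    have h2 : g = (d : G)⁻¹ * g * ((d : G)⁻¹ * g)⁻¹ * ((d : G) * ((d : G)⁻¹ * g)) := by group
    have h3 : g = ((d : G)⁻¹ * g) * (((d : G)⁻¹ * g)⁻¹ * (d : G) * ((d : G)⁻¹ * g)) := by group
    rw [h3]
    exact Subgroup.mul_mem_sup h1 (Subgroup.Normal.conj_mem' inferInstance _ d.2 _)
  rw [← Subgroup.relIndex_sup_right, hsup, Subgroup.relIndex_top_right]

/-- In the derangement setting: every orbit of a point stabilizer other than the fixed point has
size divisible by the index of `D`. -/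
theorem index_dvd_card_orbit_stabilizer {G Ω : Type*} [Group G] [Finite G] [MulAction G Ω]
    [Finite Ω] (D : Subgroup G) [D.Normal] (hD : IsPretransitive D Ω)
    (hone : ∀ g : G, g ∉ D → Nat.card (fixedBy Ω g) = 1) (α β : Ω) (hβ : β ≠ α) :
    (stabilizer (stabilizer G α) β ≤ D.subgroupOf (stabilizer G α)) ∧
    D.index * (stabilizer (stabilizer G α) β).relIndex (D.subgroupOf (stabilizer G α)) =
      Nat.card (orbit (stabilizer G α) β) := by
  have hle : stabilizer (stabilizer G α) β ≤ D.subgroupOf (stabilizer G α) := by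
    intro h hh
    rw [Subgroup.mem_subgroupOf]
    by_contra hnD
    have h1 := hone (h : G) hnD
    have h2 := (Nat.card_eq_one_iff_unique.mp h1).1
    have h3 : (⟨α, h.2⟩ : fixedBy Ω (h : G)) = ⟨β, hh⟩ := Subsingleton.elim _ _
    exact hβ (congrArg Subtype.val h3).symm
  refine ⟨hle, ?_⟩
  have h4 := Subgroup.relIndex_mul_index hle
  have h5 : (D.subgroupOf (stabilizer G α)).index = D.index :=
    relIndex_stabilizer_eq_index D hD α
  rw [h5] at h4
  rw [Nat.card_coe_set_eq, ← index_stabilizer, ← h4, mul_comm]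

/-- For a normal subgroup `D` containing all derangements of a transitive action on `X`,
the index of `D` divides `|X| - 1`. -/
theorem index_dvd_card_sub_one {G X : Type*} [Group G] [Finite G] [MulAction G X] [Finite X]
    [Nonempty X] (htrans : IsPretransitive G X) (D : Subgroup G) [D.Normal]
    (hD : ∀ g : G, (∀ x : X, g • x ≠ x) → g ∈ D) : D.index ∣ Nat.card X - 1 := by
  obtain ⟨hDt, hone⟩ := derangement_core htrans D hD
  obtain ⟨α⟩ := ‹Nonempty X›
  apply dvd_card_sub_one_of_orbits (H := stabilizer G α) α (fun h => h.2)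
  intro β hβ
  exact Dvd.intro _ (index_dvd_card_orbit_stabilizer D hDt hone α β hβ).2

end Cfsg.Agent.Lib.Helper5
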