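import Mathlib
import Cfsg.Prelude.Def_DStar
import Cfsg.Agent.Lib.Helper5.DStar
import Cfsg.Agent.Lib.Helper4.Basic
import Cfsg.Agent.S3061

/-!
A relative version (`InD T A`) of the family generating `D*(T)` for a subgroup `T ≤ G`, and the
transfer lemmas between `Cfsg.dStarFamily ↥T` and subgroups of `G`.
-/

namespace Cfsg.Agent.Lib.Helper5

/-- relative version of `dStarFamily`: `A ≤ T` abelian, and every `x ∈ T` with `⟨A, x⟩` of class
at most two centralizes `A` -/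
def InD {G : Type*} [Group G] (T A : Subgroup G) : Prop :=
  A ≤ T ∧ (∀ a ∈ A, ∀ b ∈ A, a * b = b * a) ∧
    ∀ x ∈ T, ⁅⁅A ⊔ Subgroup.zpowers x, A ⊔ Subgroup.zpowers x⁆, A ⊔ Subgroup.zpowers x⁆ = ⊥ →
      ∀ a ∈ A, a * x = x * a

theorem class_two_map_iff {H G : Type*} [Group H] [Group G] (φ : H →* G)
    (hφ : Function.Injective φ) (A : Subgroup H) (x : H) :
    ⁅⁅A.map φ ⊔ Subgroup.zpowers (φ x), A.map φ ⊔ Subgroup.zpowers (φ x)⁆,
        A.map φ ⊔ Subgroup.zpowers (φ x)⁆ = ⊥ ↔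
      ⁅⁅A ⊔ Subgroup.zpowers x, A ⊔ Subgroup.zpowers x⁆, A ⊔ Subgroup.zpowers x⁆ = ⊥ := by
  have h1 : A.map φ ⊔ Subgroup.zpowers (φ x) = (A ⊔ Subgroup.zpowers x).map φ := by
    rw [Subgroup.map_sup, MonoidHom.map_zpowers]
  rw [h1, ← Subgroup.map_commutator, ← Subgroup.map_commutator]
  exact Subgroup.map_eq_bot_iff_of_injective _ hφ

theorem mem_dStarFamily_iff {G : Type*} [Group G] (T : Subgroup G) (A₀ : Subgroup ↥T) :
    A₀ ∈ Cfsg.dStarFamily ↥T ↔ InD T (A₀.map T.subtype) := by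
  constructor
  · rintro ⟨hc, hD⟩
    refine ⟨?_, ?_, ?_⟩
    · rintro _ ⟨a, -, rfl⟩; exact a.2
    · rintro _ ⟨a, ha, rfl⟩ _ ⟨b, hb, rfl⟩
      have h1 := comm_of_isMulCommutative hc a ha b hb
      exact congrArg Subtype.val h1
    · intro x hx hcl
      rintro _ ⟨a, ha, rfl⟩
      have h2 := (class_two_map_iff T.subtype T.subtype_injective A₀ ⟨x, hx⟩).mp hcl
      have h3 := hD ⟨x, hx⟩ h2 a ha
      exact congrArg Subtype.val h3
  · rintro ⟨-, hc, hD⟩
    refine ⟨isMulCommutative_of_comm ?_, ?_⟩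
    · intro a ha b hb
      apply Subtype.ext
      exact hc _ ⟨a, ha, rfl⟩ _ ⟨b, hb, rfl⟩
    · intro x hcl a ha
      apply Subtype.ext
      exact hD x x.2 ((class_two_map_iff T.subtype T.subtype_injective A₀ x).mpr hcl) _ ⟨a, ha, rfl⟩

theorem subgroupOf_mem_dStarFamily {G : Type*} [Group G] {T A : Subgroup G} (h : InD T A) :
    A.subgroupOf T ∈ Cfsg.dStarFamily ↥T := by
  rw [mem_dStarFamily_iff, Subgroup.map_subgroupOf_eq_of_le h.1]
  exact h

theorem inD_dStarOf {G : Type*} [Group G] [Finite G] {p : ℕ} [Fact p.Prime] (T : Subgroup G)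
    (hT : IsPGroup p T) : InD T (Cfsg.dStarOf T) :=
  (mem_dStarFamily_iff T (Cfsg.dStar ↥T)).mp (Cfsg.Agent.S3061.result hT)

theorem le_dStarOf_of_inD {G : Type*} [Group G] (T A : Subgroup G) (h : InD T A) :
    A ≤ Cfsg.dStarOf T := by
  have h1 : A.subgroupOf T ≤ Cfsg.dStar ↥T := le_sSup (subgroupOf_mem_dStarFamily h)
  have h2 := Subgroup.map_mono (f := T.subtype) h1
  rw [Subgroup.map_subgroupOf_eq_of_le h.1] at h2
  exact h2

theorem inD_centralizes_of_normalizes {G : Type*} [Group G] [Finite G] {p : ℕ} [Fact p.Prime]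
    (T : Subgroup G) (hT : IsPGroup p T) (A : Subgroup G) (hA : InD T A) (B : Subgroup G)
    (hBT : B ≤ T) (hB : ∀ a ∈ B, ∀ b ∈ B, a * b = b * a)
    (hAB : A ≤ Subgroup.normalizer (B : Set G)) : ∀ a ∈ A, ∀ b ∈ B, a * b = b * a := by
  have h1 := dStar_centralizes_of_normalizes hT (A.subgroupOf T) (subgroupOf_mem_dStarFamily hA)
    (B.subgroupOf T)
    (by
      intro a ha b hb
      apply Subtype.ext
      exact hB _ (Subgroup.mem_subgroupOf.mp ha) _ (Subgroup.mem_subgroupOf.mp hb))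
    (by
      intro a ha
      have h2 := hAB (Subgroup.mem_subgroupOf.mp ha)
      rw [Subgroup.mem_normalizer_iff] at h2 ⊢
      intro h
      rw [Subgroup.mem_subgroupOf, Subgroup.mem_subgroupOf]
      exact h2 h)
  intro a ha b hb
  have h3 := h1 ⟨a, hA.1 ha⟩ (Subgroup.mem_subgroupOf.mpr ha) ⟨b, hBT hb⟩ (Subgroup.mem_subgroupOf.mpr hb)
  exact congrArg Subtype.val h3

theorem inD_map {G G' : Type*} [Group G] [Group G'] (φ : G →* G') (hφ : Function.Injective φ)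
    {T A : Subgroup G} (h : InD T A) : InD (T.map φ) (A.map φ) := by
  obtain ⟨hle, hc, hD⟩ := h
  refine ⟨Subgroup.map_mono hle, ?_, ?_⟩
  · rintro _ ⟨a, ha, rfl⟩ _ ⟨b, hb, rfl⟩
    rw [← map_mul, ← map_mul, hc a ha b hb]
  · rintro _ ⟨x, hx, rfl⟩ hcl _ ⟨a, ha, rfl⟩
    rw [← map_mul, ← map_mul, hD x hx ((class_two_map_iff φ hφ A x).mp hcl) a ha]

/-- an element whose image lies in `O_p(G/C)` for a normal `p`-subgroup `C` lies in `O_p(G)` -/
theorem mem_pCore_of_mk_mem {G : Type*} [Group G] [Finite G] {p : ℕ} [Fact p.Prime]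
    (C : Subgroup G) [C.Normal] (hC : IsPGroup p C) (a : G)
    (h : (QuotientGroup.mk a : G ⧸ C) ∈ Cfsg.pCore p (G ⧸ C)) : a ∈ Cfsg.pCore p G := by
  have hLn : ((Cfsg.pCore p (G ⧸ C)).comap (QuotientGroup.mk' C)).Normal :=
    (Cfsg.Agent.Lib.Helper4.pCore_normal p (G ⧸ C)).comap _
  have hLp : IsPGroup p ((Cfsg.pCore p (G ⧸ C)).comap (QuotientGroup.mk' C)) := by
    apply IsPGroup.comap_of_ker_isPGroup (Cfsg.Agent.Lib.Helper4.pCore_isPGroup p (G ⧸ C))
    rw [QuotientGroup.ker_mk']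
    exact hC
  exact Cfsg.Agent.Lib.Helper4.le_pCore hLn hLp (Subgroup.mem_comap.mpr h)

/-- an element whose image lies in `O_p(G/C)` is a product of an element of any given Sylow
`p`-subgroup and an element of `C` -/
theorem exists_mul_of_mk_mem_pCore {G : Type*} [Group G] [Finite G] {p : ℕ} [Fact p.Prime]
    (C : Subgroup G) [C.Normal] (P : Sylow p G) (x : G)
    (h : (QuotientGroup.mk x : G ⧸ C) ∈ Cfsg.pCore p (G ⧸ C)) : ∃ y ∈ (P : Subgroup G), ∃ c ∈ C, x = y * c := by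
  have h1 := Cfsg.Agent.Lib.Helper4.pCore_le_sylow (P.mapSurjective (QuotientGroup.mk'_surjective C)) h
  rw [Sylow.coe_mapSurjective] at h1
  obtain ⟨y, hy, hyx⟩ := h1
  refine ⟨y, hy, y⁻¹ * x, ?_, by group⟩
  exact QuotientGroup.eq.mp hyx

end Cfsg.Agent.Lib.Helper5
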