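import Mathlib
import Cfsg.Prelude.Def_IsolatedElements
import Cfsg.Agent.Lib.Helper5.NormalCompl
import Cfsg.Agent.Lib.Helper5.SylowChain
import Cfsg.Agent.Lib.Helper6.NormGrow

/-!
Isolated elements (`Cfsg.IsIsolated`): basic lemmas.
-/

namespace Cfsg.Agent.Lib.Helper5

/-- a conjugate of an isolated element is isolated -/
theorem isIsolated_conj {G : Type*} [Group G] {x : G} (h : Cfsg.IsIsolated x) (a : G) :
    Cfsg.IsIsolated (a * x * a⁻¹) := by
  intro g hg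
  have h1 : Commute x ((a⁻¹ * g * a) * x * (a⁻¹ * g * a)⁻¹) := by
    have h0 := hg.eq
    show x * ((a⁻¹ * g * a) * x * (a⁻¹ * g * a)⁻¹) = ((a⁻¹ * g * a) * x * (a⁻¹ * g * a)⁻¹) * x
    calc x * ((a⁻¹ * g * a) * x * (a⁻¹ * g * a)⁻¹)
        = a⁻¹ * ((a * x * a⁻¹) * (g * (a * x * a⁻¹) * g⁻¹)) * a := by group
      _ = a⁻¹ * ((g * (a * x * a⁻¹) * g⁻¹) * (a * x * a⁻¹)) * a := by rw [h0]
      _ = _ := by group
  have h2 := h _ h1
  calc g * (a * x * a⁻¹) * g⁻¹ = a * ((a⁻¹ * g * a) * x * (a⁻¹ * g * a)⁻¹) * a⁻¹ := by group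
    _ = a * x * a⁻¹ := by rw [h2]

/-- an isolated element of a `p`-subgroup `R` is central in `R` -/
theorem isolated_central_of_pGroup {G : Type*} [Group G] [Finite G] {p : ℕ} [Fact p.Prime] {x : G}
    (h : Cfsg.IsIsolated x) (R : Subgroup G) (hR : IsPGroup p R) (hxR : x ∈ R) :
    ∀ r ∈ R, r * x = x * r := by
  by_contra hcon
  push Not at hcon
  obtain ⟨r₀, hr₀, hne⟩ := hcon
  have hlt : R ⊓ Subgroup.centralizer {x} < R := by
    refine lt_of_le_of_ne inf_le_left ?_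
    intro heq
    have h1 : r₀ ∈ R ⊓ Subgroup.centralizer {x} := by rw [heq]; exact hr₀
    exact hne ((Subgroup.mem_centralizer_iff.mp h1.2 x (Set.mem_singleton x)).symm)
  obtain ⟨r, hrR, hrN, hrC⟩ := Cfsg.Agent.Lib.Helper6.exists_mem_normalizer_not_mem hR hlt
  apply hrC
  refine Subgroup.mem_inf.mpr ⟨hrR, ?_⟩
  rw [Subgroup.mem_centralizer_iff]
  intro y hy
  rw [Set.mem_singleton_iff] at hy
  rw [hy]
  have hxC : x ∈ R ⊓ Subgroup.centralizer {x} := by
    refine Subgroup.mem_inf.mpr ⟨hxR, ?_⟩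
    rw [Subgroup.mem_centralizer_iff]
    intro y hy
    rw [Set.mem_singleton_iff] at hy
    rw [hy]
  have h2 : r * x * r⁻¹ ∈ R ⊓ Subgroup.centralizer {x} := by
    rw [Subgroup.mem_normalizer_iff] at hrN
    exact (hrN x).mp hxC
  have h3 : Commute x (r * x * r⁻¹) := Subgroup.mem_centralizer_iff.mp h2.2 x (Set.mem_singleton x)
  have h4 := h r h3
  calc x * r = (r * x * r⁻¹) * r := by rw [h4]
    _ = r * x := by group

/-- two `p`-elements of a subgroup `C` can be moved into a common `p`-subgroup by conjugating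
one of them with an element of `C` -/
theorem exists_conj_into_common_pSubgroup {G : Type*} [Group G] [Finite G] {p : ℕ} [Fact p.Prime]
    (C : Subgroup G) (x y : G) (hx : x ∈ C) (hy : y ∈ C) (hxp : ∃ k : ℕ, orderOf x = p ^ k)
    (hyp : ∃ k : ℕ, orderOf y = p ^ k) :
    ∃ c ∈ C, ∃ S : Subgroup G, IsPGroup p S ∧ S ≤ C ∧ x ∈ S ∧ c * y * c⁻¹ ∈ S := by
  obtain ⟨k₁, hk₁⟩ := hxp
  obtain ⟨k₂, hk₂⟩ := hyp
  have hx' : IsPGroup p (Subgroup.zpowers (⟨x, hx⟩ : C)) :=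
    IsPGroup.of_card (n := k₁) (by rw [Nat.card_zpowers, Subgroup.orderOf_mk, hk₁])
  have hy' : IsPGroup p (Subgroup.zpowers (⟨y, hy⟩ : C)) :=
    IsPGroup.of_card (n := k₂) (by rw [Nat.card_zpowers, Subgroup.orderOf_mk, hk₂])
  obtain ⟨Q₁, hQ₁⟩ := hx'.exists_le_sylow
  obtain ⟨Q₂, hQ₂⟩ := hy'.exists_le_sylow
  obtain ⟨c, hc⟩ := MulAction.exists_smul_eq C Q₂ Q₁
  refine ⟨c, c.2, (Q₁ : Subgroup C).map C.subtype, Q₁.2.map _, ?_, ?_, ?_⟩
  · rintro _ ⟨z, -, rfl⟩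
    exact z.2
  · exact ⟨⟨x, hx⟩, hQ₁ (Subgroup.mem_zpowers _), rfl⟩
  · refine ⟨c * ⟨y, hy⟩ * c⁻¹, ?_, rfl⟩
    rw [← hc]
    show c * ⟨y, hy⟩ * c⁻¹ ∈ ((c • Q₂ : Sylow p C) : Subgroup C)
    rw [mem_sylow_smul_iff]
    have e : c⁻¹ * (c * (⟨y, hy⟩ : C) * c⁻¹) * c = ⟨y, hy⟩ := by group
    rw [e]
    exact hQ₂ (Subgroup.mem_zpowers _)

/-- if an isolated `p`-element `x` and a conjugate of it both lie in a subgroup `C`, they are
conjugate by an element of `C` -/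
theorem isolated_conj_eq_of_mem {G : Type*} [Group G] [Finite G] {p : ℕ} [Fact p.Prime] {x : G}
    (h : Cfsg.IsIsolated x) (hxp : ∃ k : ℕ, orderOf x = p ^ k) (C : Subgroup G) (hxC : x ∈ C)
    (g : G) (hgC : g * x * g⁻¹ ∈ C) : ∃ c ∈ C, c * (g * x * g⁻¹) * c⁻¹ = x := by
  have hyp : ∃ k : ℕ, orderOf (g * x * g⁻¹) = p ^ k := by rw [orderOf_conj_eq']; exact hxp
  obtain ⟨c, hc, S, hS, -, hxS, hyS⟩ :=
    exists_conj_into_common_pSubgroup C x (g * x * g⁻¹) hxC hgC hxp hyp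
  refine ⟨c, hc, ?_⟩
  have h1 := isolated_central_of_pGroup h S hS hxS _ hyS
  have e : c * (g * x * g⁻¹) * c⁻¹ = (c * g) * x * (c * g)⁻¹ := by group
  rw [e] at h1 ⊢
  exact h (c * g) h1.symm

/-- an isolated `p`-element `x` of a `p`-subgroup `R`: a conjugate of a power of `x` lying in `R`
is that power -/
theorem isolated_conj_eq_self {G : Type*} [Group G] [Finite G] {p : ℕ} [Fact p.Prime] {x : G}
    (h : Cfsg.IsIsolated x) (hxp : ∃ k : ℕ, orderOf x = p ^ k) (R : Subgroup G) (hR : IsPGroup p R)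
    (hxR : x ∈ R) (a : G) (ha : a ∈ Subgroup.zpowers x) (g : G) (hg : g * a * g⁻¹ ∈ R) :
    g * a * g⁻¹ = a := by
  have hax : a * x = x * a := by
    have h1 : Subgroup.zpowers x ≤ Subgroup.centralizer {x} := by
      rw [Subgroup.zpowers_le, Subgroup.mem_centralizer_iff]
      intro y hy
      rw [Set.mem_singleton_iff] at hy
      rw [hy]
    exact (Subgroup.mem_centralizer_iff.mp (h1 ha) x (Set.mem_singleton x)).symm
  have hxb : x ∈ Subgroup.centralizer {g * a * g⁻¹} := by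
    rw [Subgroup.mem_centralizer_iff]
    intro y hy
    rw [Set.mem_singleton_iff] at hy
    rw [hy]
    exact isolated_central_of_pGroup h R hR hxR _ hg
  have hx'b : g * x * g⁻¹ ∈ Subgroup.centralizer {g * a * g⁻¹} := by
    rw [Subgroup.mem_centralizer_iff]
    intro y hy
    rw [Set.mem_singleton_iff] at hy
    rw [hy]
    calc g * a * g⁻¹ * (g * x * g⁻¹) = g * (a * x) * g⁻¹ := by group
      _ = g * (x * a) * g⁻¹ := by rw [hax]
      _ = g * x * g⁻¹ * (g * a * g⁻¹) := by group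
  obtain ⟨c, hc, hcx⟩ := isolated_conj_eq_of_mem h hxp _ hxb g hx'b
  have hcb := Subgroup.mem_centralizer_iff.mp hc _ (Set.mem_singleton _)
  have h2 : (c * g) * x = x * (c * g) := by
    calc (c * g) * x = (c * (g * x * g⁻¹) * c⁻¹) * (c * g) := by group
      _ = x * (c * g) := by rw [hcx]
  have h3 : (c * g) * a = a * (c * g) := by
    have h4 : Subgroup.zpowers x ≤ Subgroup.centralizer {c * g} := by
      rw [Subgroup.zpowers_le, Subgroup.mem_centralizer_iff]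
      intro y hy
      rw [Set.mem_singleton_iff] at hy
      rw [hy]; exact h2
    exact Subgroup.mem_centralizer_iff.mp (h4 ha) _ (Set.mem_singleton _)
  calc g * a * g⁻¹ = (g * a * g⁻¹ * c) * c⁻¹ := by group
    _ = (c * (g * a * g⁻¹)) * c⁻¹ := by rw [hcb]
    _ = ((c * g) * a) * (c * g)⁻¹ := by group
    _ = (a * (c * g)) * (c * g)⁻¹ := by rw [h3]
    _ = a := by group

end Cfsg.Agent.Lib.Helper5
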