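import Mathlib

set_option autoImplicit false

namespace Cfsg.Agent.Lib.Helper5

open MulAction

/-- A finite group acting freely on an invariant finite set: the order divides the size. -/
theorem free_card_dvd {A : Type*} [Group A] [Finite A] {X : Type*} [MulAction A X] :
    ∀ (n : ℕ) (S : Set X), S.Finite → S.ncard = n → (∀ a : A, ∀ x ∈ S, a • x ∈ S) →
      (∀ a : A, ∀ x ∈ S, a • x = x → a = 1) → Nat.card A ∣ n := by
  intro n
  induction n using Nat.strong_induction_on with
  | _ n ih =>
    intro S hS hn hinv hfree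
    rcases Set.eq_empty_or_nonempty S with hem | ⟨x, hx⟩
    · rw [hem, Set.ncard_empty] at hn
      rw [← hn]; exact dvd_zero _
    · have hO : orbit A x ⊆ S := by
        rintro y ⟨a, rfl⟩
        exact hinv a x hx
      have hOfin : (orbit A x).Finite := hS.subset hO
      have hOcard : (orbit A x).ncard = Nat.card A := by
        have hinj : Function.Injective (fun a : A => a • x) := by
          intro a b hab
          have h1 : (b⁻¹ * a) • x = x := by
            rw [mul_smul]
            show b⁻¹ • (a • x) = x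
            rw [show a • x = b • x from hab, inv_smul_smul]
          have h2 := hfree _ x hx h1
          exact (inv_mul_eq_one.mp h2).symm
        rw [← Nat.card_coe_set_eq]
        exact Nat.card_range_of_injective hinj
      have hApos : 0 < Nat.card A := Nat.card_pos
      have hdiff : (S \ orbit A x).ncard = n - Nat.card A := by
        rw [Set.ncard_diff hO hOfin, hn, hOcard]
      have hle : Nat.card A ≤ n := by
        rw [← hn, ← hOcard]; exact Set.ncard_le_ncard hO hS
      have h1 := ih (n - Nat.card A) (by omega) (S \ orbit A x) (hS.subset Set.diff_subset) hdiff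
        (by
          rintro a y ⟨hy, hyO⟩
          refine ⟨hinv a y hy, ?_⟩
          intro h
          apply hyO
          obtain ⟨b, hb⟩ := h
          refine ⟨a⁻¹ * b, ?_⟩
          have hb' : b • x = a • y := hb
          show (a⁻¹ * b) • x = y
          rw [mul_smul, hb', inv_smul_smul])
        (by
          rintro a y ⟨hy, -⟩ hay
          exact hfree a y hy hay)
      have h2 : n = (n - Nat.card A) + Nat.card A := by omega
      rw [h2]
      exact Dvd.dvd.add h1 (dvd_refl _)

section

variable {H : Type*} [Group H] [Finite H] {Δ : Type*} [Finite Δ] [MulAction H Δ] [FaithfulSMul H Δ]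

/-- A nontrivial normal subgroup of a faithful primitive group is transitive. -/
theorem normal_transitive (hprim : IsPreprimitive H Δ) (A : Subgroup H) [A.Normal] (hA : A ≠ ⊥) :
    ∀ x y : Δ, ∃ a ∈ A, a • x = y := by
  haveI := hprim
  have hfix : fixedPoints A Δ ≠ Set.univ := by
    intro h
    apply hA
    rw [eq_bot_iff]
    intro l hl
    rw [Subgroup.mem_bot]
    apply FaithfulSMul.eq_of_smul_eq_smul (α := Δ)
    intro x
    rw [one_smul]
    have h2 : x ∈ fixedPoints A Δ := by rw [h]; trivial
    exact h2 ⟨l, hl⟩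
  haveI : IsPretransitive A Δ := IsQuasiPreprimitive.isPretransitive_of_normal hfix
  intro x y
  obtain ⟨a, ha⟩ := exists_smul_eq A x y
  exact ⟨a, a.2, ha⟩

/-- A nontrivial abelian normal subgroup of a faithful primitive group acts freely. -/
theorem abelian_normal_free (hprim : IsPreprimitive H Δ) (A : Subgroup H) [A.Normal] (hA : A ≠ ⊥)
    (hc : ∀ a ∈ A, ∀ b ∈ A, a * b = b * a) (a : H) (ha : a ∈ A) (x : Δ) (hax : a • x = x) :
    a = 1 := by
  apply FaithfulSMul.eq_of_smul_eq_smul (α := Δ)
  intro y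
  rw [one_smul]
  obtain ⟨b, hb, hby⟩ := normal_transitive hprim A hA x y
  rw [← hby, smul_smul, hc a ha b hb, mul_smul, hax]

/-- A nontrivial abelian normal subgroup of a faithful primitive group is self-centralizing. -/
theorem abelian_normal_centralizer (hprim : IsPreprimitive H Δ) (A : Subgroup H) [A.Normal]
    (hA : A ≠ ⊥) (hc : ∀ a ∈ A, ∀ b ∈ A, a * b = b * a) :
    Subgroup.centralizer (A : Set H) = A := by
  apply le_antisymm
  · intro c hc'
    rcases isEmpty_or_nonempty Δ with hΔ | ⟨⟨x⟩⟩
    · exfalso; apply hA; rw [eq_bot_iff]; intro l hl; rw [Subgroup.mem_bot]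
      apply FaithfulSMul.eq_of_smul_eq_smul (α := Δ); intro y; exact (hΔ.false y).elim
    · obtain ⟨a, ha, hax⟩ := normal_transitive hprim A hA x (c • x)
      have h1 : a⁻¹ * c = 1 := by
        apply FaithfulSMul.eq_of_smul_eq_smul (α := Δ)
        intro y
        rw [one_smul]
        obtain ⟨b, hb, hby⟩ := normal_transitive hprim A hA x y
        have hcb : b * c = c * b := (Subgroup.mem_centralizer_iff.mp hc') b hb
        rw [← hby, smul_smul]
        have e : a⁻¹ * c * b = b * (a⁻¹ * c) := by
          have h2 : a⁻¹ * b = b * a⁻¹ := hc _ (A.inv_mem ha) b hb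
          calc a⁻¹ * c * b = a⁻¹ * (c * b) := mul_assoc _ _ _
            _ = a⁻¹ * (b * c) := by rw [hcb]
            _ = (a⁻¹ * b) * c := (mul_assoc _ _ _).symm
            _ = (b * a⁻¹) * c := by rw [h2]
            _ = b * (a⁻¹ * c) := mul_assoc _ _ _
        rw [e, mul_smul, mul_smul, ← hax, inv_smul_smul]
      have h2 : c = a := (inv_mul_eq_one.mp h1).symm
      rw [h2]; exact ha
  · intro a ha
    rw [Subgroup.mem_centralizer_iff]
    intro b hb
    exact hc b hb a ha

/-- A nontrivial abelian normal subgroup of a faithful primitive group is regular. -/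
theorem abelian_normal_card [Nonempty Δ] (hprim : IsPreprimitive H Δ) (A : Subgroup H) [A.Normal]
    (hA : A ≠ ⊥) (hc : ∀ a ∈ A, ∀ b ∈ A, a * b = b * a) : Nat.card A = Nat.card Δ := by
  obtain ⟨x⟩ := ‹Nonempty Δ›
  apply Nat.card_congr
  refine Equiv.ofBijective (fun a : A => (a : H) • x) ⟨?_, ?_⟩
  · intro a b hab
    have hab' : (a : H) • x = (b : H) • x := hab
    have h1 : ((b : H)⁻¹ * (a : H)) • x = x := by
      rw [mul_smul, hab', inv_smul_smul]
    have h2 := abelian_normal_free hprim A hA hc _ (A.mul_mem (A.inv_mem b.2) a.2) x h1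
    exact Subtype.ext (inv_mul_eq_one.mp h2).symm
  · intro y
    obtain ⟨a, ha, hay⟩ := normal_transitive hprim A hA x y
    exact ⟨⟨a, ha⟩, hay⟩

/-- A nontrivial abelian normal subgroup of a faithful primitive group has prime exponent. -/
theorem abelian_normal_elementary [Nonempty Δ] (hprim : IsPreprimitive H Δ) (A : Subgroup H)
    [hAn : A.Normal] (hA : A ≠ ⊥) (hc : ∀ a ∈ A, ∀ b ∈ A, a * b = b * a) (p : ℕ) (hp : p.Prime)
    (hpd : p ∣ Nat.card A) : ∀ a ∈ A, a ^ p = 1 := by
  classical
  let B : Subgroup H :=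
    { carrier := {a | a ∈ A ∧ a ^ p = 1}
      one_mem' := ⟨A.one_mem, one_pow p⟩
      mul_mem' := by
        rintro a b ⟨ha, ha'⟩ ⟨hb, hb'⟩
        refine ⟨A.mul_mem ha hb, ?_⟩
        rw [(show Commute a b from hc a ha b hb).mul_pow, ha', hb', one_mul]
      inv_mem' := by
        rintro a ⟨ha, ha'⟩
        exact ⟨A.inv_mem ha, by rw [inv_pow, ha', inv_one]⟩ }
  have hBmem : ∀ a : H, a ∈ B ↔ a ∈ A ∧ a ^ p = 1 := fun a => Iff.rfl
  haveI hBn : B.Normal := by
    constructor
    intro a ha g
    rw [hBmem] at ha ⊢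
    exact ⟨hAn.conj_mem a ha.1 g, by rw [conj_pow, ha.2, mul_one, mul_inv_cancel]⟩
  have hBA : B ≤ A := fun a ha => ((hBmem a).mp ha).1
  have hB : B ≠ ⊥ := by
    haveI : Fact p.Prime := ⟨hp⟩
    obtain ⟨a, ha⟩ := exists_prime_orderOf_dvd_card' (G := ↥A) p hpd
    intro h
    have h0 : ((a : H)) ^ p = 1 := by
      rw [← Subgroup.orderOf_coe] at ha
      rw [← ha]; exact pow_orderOf_eq_one _
    have h1 : (a : H) ∈ B := (hBmem _).mpr ⟨a.2, h0⟩
    rw [h, Subgroup.mem_bot] at h1
    have h2 : a = 1 := Subtype.ext h1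
    rw [h2, orderOf_one] at ha
    exact hp.one_lt.ne ha
  have h1 := abelian_normal_card hprim B hB (fun a ha b hb => hc a (hBA ha) b (hBA hb))
  have h2 := abelian_normal_card hprim A hA hc
  have h3 : B = A := Subgroup.eq_of_le_of_card_ge hBA (by rw [h1, h2])
  intro a ha
  have h4 : a ∈ B := by rw [h3]; exact ha
  exact ((hBmem a).mp h4).2

/-- A nilpotent normal subgroup of a faithful primitive group is abelian. -/
theorem nilpotent_normal_abelian (hprim : IsPreprimitive H Δ) (N : Subgroup H) [hNn : N.Normal]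
    (hNil : Group.IsNilpotent N) : ∀ a ∈ N, ∀ b ∈ N, a * b = b * a := by
  classical
  by_cases hN : N = ⊥
  · intro a ha b hb
    rw [hN, Subgroup.mem_bot] at ha hb
    rw [ha, hb]
  haveI : Nontrivial ↥N := (Subgroup.nontrivial_iff_ne_bot N).mpr hN
  have hcen := Group.IsNilpotent.center_ne_bot (↥N)
  obtain ⟨Z, hZdef⟩ : ∃ Z : Subgroup H, Z = N ⊓ Subgroup.centralizer (N : Set H) := ⟨_, rfl⟩
  haveI hCn : (Subgroup.centralizer (N : Set H)).Normal := Subgroup.normal_centralizer
  haveI hZn : Z.Normal := by rw [hZdef]; exact Subgroup.normal_inf_normal _ _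
  have hZmem : ∀ z : H, z ∈ Z ↔ z ∈ N ∧ ∀ n ∈ N, n * z = z * n := by
    intro z
    rw [hZdef, Subgroup.mem_inf, Subgroup.mem_centralizer_iff]
    rfl
  have hZ : Z ≠ ⊥ := by
    intro h
    apply hcen
    rw [eq_bot_iff]
    intro z hz
    rw [Subgroup.mem_bot]
    have h1 : (z : H) ∈ Z := by
      rw [hZmem]
      refine ⟨z.2, fun n hn => ?_⟩
      have h2 := Subgroup.mem_center_iff.mp hz ⟨n, hn⟩
      exact congrArg Subtype.val h2
    rw [h, Subgroup.mem_bot] at h1
    exact Subtype.ext h1
  have hZc : ∀ a ∈ Z, ∀ b ∈ Z, a * b = b * a := by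
    intro a ha b hb
    exact ((hZmem b).mp hb).2 a ((hZmem a).mp ha).1
  have hCZ := abelian_normal_centralizer hprim Z hZ hZc
  have hNZ : N ≤ Z := by
    rw [← hCZ]
    intro n hn
    rw [Subgroup.mem_centralizer_iff]
    intro z hz
    exact (((hZmem z).mp hz).2 n hn).symm
  intro a ha b hb
  exact hZc a (hNZ ha) b (hNZ hb)

/-- Two nontrivial abelian normal subgroups of a faithful primitive group coincide. -/
theorem abelian_normal_unique [Nonempty Δ] (hprim : IsPreprimitive H Δ) (A B : Subgroup H)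
    [hAn : A.Normal] [hBn : B.Normal] (hA : A ≠ ⊥) (hB : B ≠ ⊥)
    (hcA : ∀ a ∈ A, ∀ b ∈ A, a * b = b * a) (hcB : ∀ a ∈ B, ∀ b ∈ B, a * b = b * a) : A = B := by
  haveI hDn : (A ⊓ B).Normal := Subgroup.normal_inf_normal _ _
  by_cases hD : A ⊓ B = ⊥
  · exfalso
    have h1 : B ≤ Subgroup.centralizer (A : Set H) := by
      intro b hb
      rw [Subgroup.mem_centralizer_iff]
      intro a ha
      have h2 : a * b * a⁻¹ * b⁻¹ ∈ A ⊓ B := by
        refine ⟨?_, ?_⟩
        · have h3 := hAn.conj_mem a⁻¹ (A.inv_mem ha) b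
          have e : a * b * a⁻¹ * b⁻¹ = a * (b * a⁻¹ * b⁻¹) := by group
          rw [e]; exact A.mul_mem ha h3
        · have h3 := hBn.conj_mem b hb a
          exact B.mul_mem h3 (B.inv_mem hb)
      rw [hD, Subgroup.mem_bot] at h2
      have e : a * b = (a * b * a⁻¹ * b⁻¹) * (b * a) := by group
      rw [e, h2, one_mul]
    rw [abelian_normal_centralizer hprim A hA hcA] at h1
    apply hB
    rw [eq_bot_iff, ← hD]
    exact le_inf h1 le_rfl
  · have h1 := abelian_normal_card hprim (A ⊓ B) hD (fun a ha b hb => hcA a ha.1 b hb.1)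
    have h2 := abelian_normal_card hprim A hA hcA
    have h3 := abelian_normal_card hprim B hB hcB
    have h4 : A ⊓ B = A := Subgroup.eq_of_le_of_card_ge inf_le_left (by rw [h1, h2])
    have h5 : A ⊓ B = B := Subgroup.eq_of_le_of_card_ge inf_le_right (by rw [h1, h3])
    rw [← h4, h5]

/-- A nontrivial abelian faithful primitive group has prime order. -/
theorem abelian_primitive_prime_card [Nonempty Δ] (hprim : IsPreprimitive H Δ)
    (hc : ∀ a b : H, a * b = b * a) (hH : Nat.card H ≠ 1) : (Nat.card H).Prime := by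
  classical
  obtain ⟨p, hp, hpd⟩ := Nat.exists_prime_and_dvd hH
  haveI : Fact p.Prime := ⟨hp⟩
  obtain ⟨x, hx⟩ := exists_prime_orderOf_dvd_card' (G := H) p hpd
  haveI hBn : (Subgroup.zpowers x).Normal := by
    constructor
    intro a ha g
    have e : g * a * g⁻¹ = a := by rw [hc g a]; group
    rw [e]; exact ha
  have hB : Subgroup.zpowers x ≠ ⊥ := by
    rw [Ne, Subgroup.zpowers_eq_bot]
    intro h
    rw [h, orderOf_one] at hx
    exact hp.one_lt.ne hx
  have hT : (⊤ : Subgroup H) ≠ ⊥ := by
    intro h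
    apply hB
    rw [eq_bot_iff, ← h]; exact le_top
  have h1 := abelian_normal_card hprim (Subgroup.zpowers x) hB (fun a _ b _ => hc a b)
  have h2 := abelian_normal_card hprim (⊤ : Subgroup H) hT (fun a _ b _ => hc a b)
  rw [Nat.card_zpowers, hx] at h1
  rw [Subgroup.card_top] at h2
  rw [h2, ← h1]; exact hp

end

end Cfsg.Agent.Lib.Helper5
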