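import Mathlib

/-!
# Transfer into a quotient of order two (helper5)

`transfer_index_two`: if `S ≤ G` has odd index, `M ≤ S` has index `2` in `S`, and `x : G` is such
that a conjugate `r⁻¹ x^k r` (with `k ∣ orderOf x`) lying in `S` lies in `M` exactly when `k` is
even, then `G` has a subgroup of index `2` not containing `x` (the kernel of the transfer).
This is the engine of Thompson's transfer lemma and its generalisations.
-/

set_option autoImplicit false

namespace Cfsg.Agent.Lib.Helper5

open MulAction in
theorem transfer_index_two {G : Type*} [Group G] [Finite G] (S M : Subgroup G)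
    (hM : M.relIndex S = 2) (hodd : Odd S.index) (x : G)
    (hx : ∀ (r : G) (k : ℕ), k ∣ orderOf x → r⁻¹ * x ^ k * r ∈ S →
      (r⁻¹ * x ^ k * r ∈ M ↔ Even k)) :
    ∃ N : Subgroup G, N.index = 2 ∧ x ∉ N := by
  classical
  have hM' : (M.subgroupOf S).index = 2 := hM
  let ψ : S →* ℤˣ :=
    { toFun := fun s => if (s : G) ∈ M then 1 else -1
      map_one' := by simp [M.one_mem]
      map_mul' := fun a b => by
        have h := Subgroup.mul_mem_iff_of_index_two hM' (a := a) (b := b)
        simp only [Subgroup.mem_subgroupOf, Subgroup.coe_mul] at h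
        by_cases ha : (a : G) ∈ M <;> by_cases hb : (b : G) ∈ M <;> simp [ha, hb, h] }
  have hψ : ∀ s : S, ψ s = if (s : G) ∈ M then 1 else -1 := fun s => rfl
  have : S.FiniteIndex := inferInstance
  have key : MonoidHom.transfer ψ x = -1 := by
    letI : Fintype (Quotient (MulAction.orbitRel (Subgroup.zpowers x) (G ⧸ S))) :=
      Fintype.ofFinite _
    rw [MonoidHom.transfer_eq_prod_quotient_orbitRel_zpowers_quot]
    have hfac : ∀ q : Quotient (MulAction.orbitRel (Subgroup.zpowers x) (G ⧸ S)),
        ψ ⟨q.out.out⁻¹ * x ^ Function.minimalPeriod (x • ·) q.out * q.out.out,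
          QuotientGroup.out_conj_pow_minimalPeriod_mem S x q.out⟩ =
          (-1 : ℤˣ) ^ Function.minimalPeriod (x • ·) q.out := by
      intro q
      rw [hψ]
      have hdvd : Function.minimalPeriod (x • ·) q.out ∣ orderOf x := by
        apply Function.IsPeriodicPt.minimalPeriod_dvd
        rw [Function.IsPeriodicPt, Function.IsFixedPt, smul_iterate, pow_orderOf_eq_one]
        exact one_smul _ _
      have := hx q.out.out _ hdvd (QuotientGroup.out_conj_pow_minimalPeriod_mem S x q.out)
      by_cases hev : Even (Function.minimalPeriod (x • ·) q.out)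
      · rw [if_pos (this.mpr hev), hev.neg_one_pow]
      · rw [if_neg (fun h => hev (this.mp h)), (Nat.not_even_iff_odd.mp hev).neg_one_pow]
    rw [Finset.prod_congr rfl (fun q _ => hfac q), Finset.prod_pow_eq_pow_sum,
      ← Subgroup.index_eq_sum_minimalPeriod S x, hodd.neg_one_pow]
  refine ⟨(MonoidHom.transfer ψ).ker, ?_, ?_⟩
  · rw [Subgroup.index_ker]
    have : (MonoidHom.transfer ψ).range = ⊤ := by
      rw [eq_top_iff]
      intro u _
      rcases Int.units_eq_one_or u with rfl | rfl
      · exact Subgroup.one_mem _
      · exact ⟨x, key⟩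
    rw [this, Subgroup.card_top, Nat.card_eq_fintype_card, Fintype.card_units_int]
  · rw [MonoidHom.mem_ker, key]; decide

end Cfsg.Agent.Lib.Helper5
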