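import Mathlib

set_option autoImplicit false

namespace Cfsg.Agent.Lib.Helper5

/-- Transfer into an abelian quotient `M/H`: if `H` is normal in `M` with `M/H` abelian and
`M ∩ gMg⁻¹ ≤ H` for every `g ∉ M`, then some normal subgroup `K₀` of `G` containing the
derived subgroup meets `M` exactly in `H` (the kernel of the transfer `G → M/H`). -/
theorem transfer_kernel_inf {G : Type*} [Group G] [Finite G] (H M : Subgroup G) (hHM : H ≤ M)
    (hB : M ≤ Subgroup.normalizer (H : Set G))
    (hab : ∀ a ∈ M, ∀ b ∈ M, a * b * a⁻¹ * b⁻¹ ∈ H)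
    (hstar : ∀ g : G, g ∉ M → ∀ m ∈ M, g * m * g⁻¹ ∈ M → g * m * g⁻¹ ∈ H) :
    ∃ K₀ : Subgroup G, K₀.Normal ∧ commutator G ≤ K₀ ∧ K₀ ⊓ M = H := by
  classical
  haveI hNn : (H.subgroupOf M).Normal :=
    (Subgroup.normal_subgroupOf_iff_le_normalizer hHM).mpr hB
  letI : CommGroup (↥M ⧸ H.subgroupOf M) :=
    { (inferInstance : Group (↥M ⧸ H.subgroupOf M)) with
      mul_comm := by
        intro a b
        obtain ⟨a, rfl⟩ := QuotientGroup.mk'_surjective (H.subgroupOf M) a
        obtain ⟨b, rfl⟩ := QuotientGroup.mk'_surjective (H.subgroupOf M) b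
        have h1 : QuotientGroup.mk' (H.subgroupOf M) (a * b * a⁻¹ * b⁻¹) = 1 :=
          (QuotientGroup.eq_one_iff _).mpr
            (Subgroup.mem_subgroupOf.mpr (hab a a.2 b b.2))
        rw [map_mul, map_mul, map_mul, map_inv, map_inv] at h1
        have h2 := congrArg (· * (QuotientGroup.mk' (H.subgroupOf M) b *
          QuotientGroup.mk' (H.subgroupOf M) a)) h1
        simp only [one_mul] at h2
        rw [← h2]; group }
  let ϕ : ↥M →* ↥M ⧸ H.subgroupOf M := QuotientGroup.mk' (H.subgroupOf M)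
  have hϕ : ∀ (y : G) (hy : y ∈ M), ϕ ⟨y, hy⟩ = 1 ↔ y ∈ H := by
    intro y hy
    exact (QuotientGroup.eq_one_iff _).trans Subgroup.mem_subgroupOf
  have hV : ∀ (t : G) (htM : t ∈ M), MonoidHom.transfer ϕ t = ϕ ⟨t, htM⟩ := by
    intro t htM
    haveI : Fintype (Quotient (MulAction.orbitRel (Subgroup.zpowers t) (G ⧸ M))) :=
      Fintype.ofFinite _
    rw [MonoidHom.transfer_eq_prod_quotient_orbitRel_zpowers_quot]
    have hfix : t • ((1 : G) : G ⧸ M) = ((1 : G) : G ⧸ M) := by
      rw [MulAction.Quotient.smul_mk, QuotientGroup.eq]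
      simpa using M.inv_mem htM
    have hout : (Quotient.mk'' ((1 : G) : G ⧸ M) :
        Quotient (MulAction.orbitRel (Subgroup.zpowers t) (G ⧸ M))).out = ((1 : G) : G ⧸ M) := by
      have h2 := Quotient.mk_out' (s₁ := MulAction.orbitRel (Subgroup.zpowers t) (G ⧸ M))
        ((1 : G) : G ⧸ M)
      rw [MulAction.orbitRel_apply, MulAction.mem_orbit_iff] at h2
      obtain ⟨⟨z, hz⟩, hz2⟩ := h2
      rw [← hz2]
      have hzM : z ∈ M := (Subgroup.zpowers_le.mpr htM) hz
      show ((z • (1 : G) : G) : G ⧸ M) = _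
      rw [QuotientGroup.eq]
      simpa using M.inv_mem hzM
    have hprod : ∏ q : Quotient (MulAction.orbitRel (Subgroup.zpowers t) (G ⧸ M)),
        ϕ ⟨q.out.out⁻¹ * t ^ Function.minimalPeriod (t • ·) q.out * q.out.out,
          QuotientGroup.out_conj_pow_minimalPeriod_mem M t q.out⟩
        = ϕ ⟨(Quotient.mk'' ((1 : G) : G ⧸ M) :
            Quotient (MulAction.orbitRel (Subgroup.zpowers t) (G ⧸ M))).out.out⁻¹ *
            t ^ Function.minimalPeriod (t • ·) (Quotient.mk'' ((1 : G) : G ⧸ M) :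
            Quotient (MulAction.orbitRel (Subgroup.zpowers t) (G ⧸ M))).out *
            (Quotient.mk'' ((1 : G) : G ⧸ M) :
            Quotient (MulAction.orbitRel (Subgroup.zpowers t) (G ⧸ M))).out.out,
          QuotientGroup.out_conj_pow_minimalPeriod_mem M t _⟩ := by
      apply Finset.prod_eq_single
      · intro q _ hq
        rw [hϕ]
        have hc : q.out.out ∉ M := by
          intro hc
          apply hq
          have h1 : q.out = ((1 : G) : G ⧸ M) := by
            rw [← QuotientGroup.out_eq' q.out, QuotientGroup.eq]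
            simpa using M.inv_mem hc
          rw [← Quotient.out_eq' q, h1]
        have h1 := hstar (q.out.out)⁻¹ (fun h' => hc (by simpa using M.inv_mem h'))
          (t ^ Function.minimalPeriod (t • ·) q.out) (M.pow_mem htM _)
          (by simpa using QuotientGroup.out_conj_pow_minimalPeriod_mem M t q.out)
        simpa using h1
      · intro h; exact absurd (Finset.mem_univ _) h
    rw [hprod]
    have hc₀ : (Quotient.mk'' ((1 : G) : G ⧸ M) :
        Quotient (MulAction.orbitRel (Subgroup.zpowers t) (G ⧸ M))).out.out ∈ M := by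
      have h1 : (((Quotient.mk'' ((1 : G) : G ⧸ M) :
          Quotient (MulAction.orbitRel (Subgroup.zpowers t) (G ⧸ M))).out.out : G) : G ⧸ M)
          = ((1 : G) : G ⧸ M) := by rw [QuotientGroup.out_eq', hout]
      have h2 := QuotientGroup.eq.mp h1
      simpa using h2
    have hn₀ : Function.minimalPeriod (t • ·) (Quotient.mk'' ((1 : G) : G ⧸ M) :
        Quotient (MulAction.orbitRel (Subgroup.zpowers t) (G ⧸ M))).out = 1 := by
      rw [Function.minimalPeriod_eq_one_iff_isFixedPt, hout]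
      exact hfix
    have he : (⟨(Quotient.mk'' ((1 : G) : G ⧸ M) :
            Quotient (MulAction.orbitRel (Subgroup.zpowers t) (G ⧸ M))).out.out⁻¹ *
            t ^ Function.minimalPeriod (t • ·) (Quotient.mk'' ((1 : G) : G ⧸ M) :
            Quotient (MulAction.orbitRel (Subgroup.zpowers t) (G ⧸ M))).out *
            (Quotient.mk'' ((1 : G) : G ⧸ M) :
            Quotient (MulAction.orbitRel (Subgroup.zpowers t) (G ⧸ M))).out.out,
          QuotientGroup.out_conj_pow_minimalPeriod_mem M t _⟩ : ↥M)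
        = (⟨_, hc₀⟩ : ↥M)⁻¹ * ⟨t, htM⟩ * ⟨_, hc₀⟩ := by
      apply Subtype.ext
      simp [hn₀]
    rw [he, map_mul, map_mul, map_inv, mul_comm, mul_inv_cancel_left]
  refine ⟨(MonoidHom.transfer ϕ).ker, MonoidHom.normal_ker _,
    Abelianization.commutator_subset_ker _, ?_⟩
  ext t
  rw [Subgroup.mem_inf, MonoidHom.mem_ker]
  constructor
  · rintro ⟨h1, h2⟩
    rw [hV t h2] at h1
    exact (hϕ t h2).mp h1
  · intro ht
    refine ⟨?_, hHM ht⟩
    rw [hV t (hHM ht)]
    exact (hϕ t (hHM ht)).mpr ht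

end Cfsg.Agent.Lib.Helper5
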