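import Mathlib
import Cfsg.Agent.Lib.Lead.PFrat
import Cfsg.Agent.Lib.Lead.Nilpotent
import Cfsg.Agent.Lib.Lead.QuatLift
import Cfsg.Agent.Lib.Lead.BaerSuzuki
import Cfsg.Agent.Lib.Helper6.NormGrow

set_option autoImplicit false
set_option linter.style.haveILetI false

/-! A finite `p`-group with a unique subgroup of order `p` is cyclic or generalized quaternion. -/

namespace Cfsg.Agent.Lib.Helper5

universe u

open scoped commutatorElement

/-- all elements of order `p` lie in one cyclic subgroup -/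
def UniqP (p : ℕ) (G : Type*) [Group G] : Prop :=
  ∀ x y : G, orderOf x = p → orderOf y = p → y ∈ Subgroup.zpowers x

theorem uniqP_subgroup {p : ℕ} {G : Type*} [Group G] (h : UniqP p G) (H : Subgroup G) :
    UniqP p ↥H := by
  intro x y hx hy
  have h1 := h (x : G) (y : G) (by rw [Subgroup.orderOf_coe]; exact hx)
    (by rw [Subgroup.orderOf_coe]; exact hy)
  obtain ⟨k, hk⟩ := Subgroup.mem_zpowers_iff.mp h1
  exact Subgroup.mem_zpowers_iff.mpr ⟨k, Subtype.ext (by simpa using hk)⟩

theorem orderOf_eq_pow_of_isPGroup {p : ℕ} [Fact p.Prime] {G : Type*} [Group G]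
    (hG : IsPGroup p G) (g : G) : ∃ k : ℕ, orderOf g = p ^ k := by
  have hp : p.Prime := Fact.out
  obtain ⟨j, hj⟩ := hG g
  obtain ⟨k, -, hk⟩ := (Nat.dvd_prime_pow hp).mp (orderOf_dvd_of_pow_eq_one hj)
  exact ⟨k, hk⟩

theorem dvd_orderOf_of_ne_one {p : ℕ} [Fact p.Prime] {G : Type*} [Group G]
    (hG : IsPGroup p G) (g : G) (hg : g ≠ 1) : p ∣ orderOf g := by
  obtain ⟨k, hk⟩ := orderOf_eq_pow_of_isPGroup hG g
  have hk0 : k ≠ 0 := by
    intro h
    rw [h, pow_zero, orderOf_eq_one_iff] at hk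
    exact hg hk
  rw [hk]
  exact dvd_pow_self p hk0

/-- an abelian `p`-group with a unique subgroup of order `p` is cyclic -/
theorem isCyclic_of_comm_uniqP {p : ℕ} [Fact p.Prime] {G : Type*} [Group G] [Finite G]
    (hG : IsPGroup p G) (hc : ∀ a b : G, a * b = b * a) (hU : UniqP p G) : IsCyclic G := by
  classical
  have hp : p.Prime := Fact.out
  obtain ⟨x, hxmax⟩ : ∃ x : G, ∀ y : G, orderOf y ≤ orderOf x := by
    obtain ⟨x, -, hx⟩ := Set.exists_max_image (Set.univ : Set G) (fun y => orderOf y)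
      Set.finite_univ ⟨1, trivial⟩
    exact ⟨x, fun y => hx y trivial⟩
  rw [isCyclic_iff_exists_zpowers_eq_top]
  refine ⟨x, ?_⟩
  by_contra hne
  have hex : ∃ y : G, y ∉ Subgroup.zpowers x := by
    by_contra hcon
    push_neg at hcon
    exact hne (eq_top_iff.mpr (fun y _ => hcon y))
  obtain ⟨y, hy, hymin⟩ : ∃ y : G, y ∉ Subgroup.zpowers x ∧
      ∀ w : G, w ∉ Subgroup.zpowers x → orderOf y ≤ orderOf w := by
    obtain ⟨y, hy, hmin⟩ := Set.exists_min_image {y : G | y ∉ Subgroup.zpowers x}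
      (fun y => orderOf y) (Set.toFinite _) hex
    exact ⟨y, hy, fun w hw => hmin w hw⟩
  have hy1 : y ≠ 1 := fun h => hy (h ▸ Subgroup.one_mem _)
  obtain ⟨j, hj⟩ := orderOf_eq_pow_of_isPGroup hG y
  have hj1 : j ≠ 0 := by
    intro h
    rw [h, pow_zero, orderOf_eq_one_iff] at hj
    exact hy1 hj
  have hyp_ord : orderOf (y ^ p) < orderOf y := by
    rw [orderOf_pow' y hp.ne_zero, hj]
    have hg : (p ^ j).gcd p = p := Nat.gcd_eq_right (dvd_pow_self p hj1)
    rw [hg]
    exact Nat.div_lt_self (pow_pos hp.pos j) hp.one_lt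
  have hyp_mem : y ^ p ∈ Subgroup.zpowers x := by
    by_contra h
    exact absurd (hymin _ h) (not_le.mpr hyp_ord)
  obtain ⟨m, hm⟩ := (Submonoid.mem_powers_iff _ _).mp (mem_powers_iff_mem_zpowers.mpr hyp_mem)
  obtain ⟨e, he⟩ := orderOf_eq_pow_of_isPGroup hG x
  have hpm : p ∣ m := by
    by_contra hnd
    have hcop : Nat.Coprime m (orderOf x) := by
      rw [he]
      exact Nat.Coprime.pow_right e ((Nat.Prime.coprime_iff_not_dvd hp).mpr hnd).symm
    obtain ⟨t, ht⟩ := exists_pow_eq_self_of_coprime hcop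
    rw [hm] at ht
    have h1 : orderOf x ∣ orderOf (y ^ p) := by
      conv_lhs => rw [← ht]
      exact orderOf_pow_dvd t
    have h2 := Nat.le_of_dvd (orderOf_pos _) h1
    have h3 := hxmax y
    omega
  obtain ⟨m', rfl⟩ := hpm
  have hwp : (y * (x ^ m')⁻¹) ^ p = 1 := by
    have hcm : Commute y (x ^ m')⁻¹ := hc _ _
    rw [hcm.mul_pow, inv_pow, ← pow_mul, mul_comm m' p, hm, mul_inv_cancel]
  have hwx : y * (x ^ m')⁻¹ ∉ Subgroup.zpowers x := by
    intro h
    apply hy
    have e1 : y = y * (x ^ m')⁻¹ * x ^ m' := by group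
    rw [e1]
    exact Subgroup.mul_mem _ h (Subgroup.pow_mem _ (Subgroup.mem_zpowers x) m')
  have hw1 : y * (x ^ m')⁻¹ ≠ 1 := fun h => hwx (h ▸ Subgroup.one_mem _)
  have hwo : orderOf (y * (x ^ m')⁻¹) = p := orderOf_eq_prime hwp hw1
  have hx1 : x ≠ 1 := by
    intro h
    have h3 := hxmax y
    rw [h, orderOf_one] at h3
    have h4 := orderOf_pos y
    have h5 : orderOf y = 1 := by omega
    exact hy1 (orderOf_eq_one_iff.mp h5)
  have hzo : orderOf (x ^ (orderOf x / p)) = p :=
    orderOf_pow_orderOf_div (orderOf_pos x).ne' (dvd_orderOf_of_ne_one hG x hx1)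
  have h5 := hU _ _ hzo hwo
  exact hwx (Subgroup.zpowers_le.mpr (Subgroup.pow_mem _ (Subgroup.mem_zpowers x) _) h5)

theorem pow_mul_comm_class_two {G : Type*} [Group G] (u v c : G) (hvu : v * u = c * u * v)
    (hc : ∀ g : G, c * g = g * c) (n : ℕ) : v ^ n * u = c ^ n * u * v ^ n := by
  have hcc : ∀ (k : ℕ) (g : G), c ^ k * g = g * c ^ k :=
    fun k g => ((show Commute c g from hc g).pow_left k).eq
  induction n with
  | zero => simp
  | succ n ih =>
    calc v ^ (n + 1) * u = v * (v ^ n * u) := by rw [pow_succ']; group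
      _ = v * (c ^ n * u * v ^ n) := by rw [ih]
      _ = (v * c ^ n) * u * v ^ n := by group
      _ = c ^ n * (v * u) * v ^ n := by rw [← hcc n v]; group
      _ = c ^ n * (c * u * v) * v ^ n := by rw [hvu]
      _ = c ^ (n + 1) * u * v ^ (n + 1) := by rw [pow_succ c, pow_succ v]; group

theorem mul_pow_class_two {G : Type*} [Group G] (u v c : G) (hvu : v * u = c * u * v)
    (hc : ∀ g : G, c * g = g * c) (n : ℕ) :
    (u * v) ^ n = u ^ n * v ^ n * c ^ (n.choose 2) := by
  have hcc : ∀ (k : ℕ) (g : G), c ^ k * g = g * c ^ k :=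
    fun k g => ((show Commute c g from hc g).pow_left k).eq
  induction n with
  | zero => simp
  | succ n ih =>
    have h1 := pow_mul_comm_class_two u v c hvu hc n
    have e : (n + 1).choose 2 = n + n.choose 2 := by
      rw [Nat.choose_succ_succ, Nat.choose_one_right]
    calc (u * v) ^ (n + 1) = (u * v) ^ n * (u * v) := pow_succ _ _
      _ = u ^ n * v ^ n * c ^ (n.choose 2) * (u * v) := by rw [ih]
      _ = u ^ n * v ^ n * ((u * v) * c ^ (n.choose 2)) := by
          rw [mul_assoc (u ^ n * v ^ n), hcc (n.choose 2) (u * v)]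
      _ = u ^ n * (v ^ n * u) * v * c ^ (n.choose 2) := by group
      _ = u ^ n * (c ^ n * u * v ^ n) * v * c ^ (n.choose 2) := by rw [h1]
      _ = u ^ n * (c ^ n * (u * v ^ n * v)) * c ^ (n.choose 2) := by group
      _ = u ^ n * ((u * v ^ n * v) * c ^ n) * c ^ (n.choose 2) := by rw [hcc]
      _ = u ^ (n + 1) * v ^ (n + 1) * c ^ ((n + 1).choose 2) := by
          rw [e, pow_add c, pow_succ u, pow_succ v]; group

theorem comm_pow_class_two {G : Type*} [Group G] (u v : G)
    (hc : ∀ g : G, ⁅u, v⁆ * g = g * ⁅u, v⁆) (n : ℕ) : ⁅u ^ n, v⁆ = ⁅u, v⁆ ^ n := by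
  induction n with
  | zero => simp [commutatorElement_def]
  | succ n ih =>
    have e : ⁅u ^ (n + 1), v⁆ = u * ⁅u ^ n, v⁆ * u⁻¹ * ⁅u, v⁆ := by
      rw [commutatorElement_def, commutatorElement_def, commutatorElement_def, pow_succ']; group
    rw [e, ih]
    have h1 : u * ⁅u, v⁆ ^ n = ⁅u, v⁆ ^ n * u :=
      ((show Commute ⁅u, v⁆ u from hc u).pow_left n).eq.symm
    rw [h1, pow_succ]; group

/-- odd `p`: a `p`-group with a unique subgroup of order `p` is cyclic -/
theorem isCyclic_of_uniqP_odd_aux {p : ℕ} [Fact p.Prime] (hp2 : p ≠ 2) :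
    ∀ (n : ℕ) (G : Type u) [Group G] [Finite G], Nat.card G = n → IsPGroup p G → UniqP p G →
      IsCyclic G := by
  intro n
  induction n using Nat.strong_induction_on with
  | _ n ih =>
    intro G _ _ hcard hG hU
    have hp : p.Prime := Fact.out
    by_contra hnc
    have hnab : ¬ ∀ a b : G, a * b = b * a := fun h => hnc (isCyclic_of_comm_uniqP hG h hU)
    push_neg at hnab
    obtain ⟨x, y, hxy⟩ := hnab
    have hprop : ∀ H : Subgroup G, H ≠ ⊤ → IsCyclic ↥H := by
      intro H hH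
      have hlt : Nat.card H < n := by
        rw [← hcard, ← Subgroup.card_top (G := G)]
        exact Helper6.card_lt_card_of_lt (lt_top_iff_ne_top.mpr hH)
      exact ih _ hlt ↥H rfl (hG.to_subgroup H) (uniqP_subgroup hU H)
    have hzx : Subgroup.zpowers x ≠ ⊤ :=
      fun h => hnc (isCyclic_iff_exists_zpowers_eq_top.mpr ⟨x, h⟩)
    have hzy : Subgroup.zpowers y ≠ ⊤ :=
      fun h => hnc (isCyclic_iff_exists_zpowers_eq_top.mpr ⟨y, h⟩)
    obtain ⟨M₁, hM₁, hxM₁⟩ := (eq_top_or_exists_le_coatom (Subgroup.zpowers x)).resolve_left hzx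
    obtain ⟨M₂, hM₂, hyM₂⟩ := (eq_top_or_exists_le_coatom (Subgroup.zpowers y)).resolve_left hzy
    have hx1 : x ∈ M₁ := hxM₁ (Subgroup.mem_zpowers x)
    have hy2 : y ∈ M₂ := hyM₂ (Subgroup.mem_zpowers y)
    have hcomm_of : ∀ M : Subgroup G, M ≠ ⊤ → ∀ a ∈ M, ∀ b ∈ M, a * b = b * a := by
      intro M hM a ha b hb
      haveI := hprop M hM
      have h1 : (⟨a, ha⟩ : ↥M) * ⟨b, hb⟩ = ⟨b, hb⟩ * ⟨a, ha⟩ :=
        (IsCyclic.isMulCommutative (α := ↥M)).is_comm.comm _ _
      exact congrArg Subtype.val h1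
    have hM₁c := hcomm_of M₁ hM₁.1
    have hM₂c := hcomm_of M₂ hM₂.1
    have hne : M₁ ≠ M₂ := by
      intro h
      exact hxy (hM₁c x hx1 y (h ▸ hy2))
    have hsup : M₁ ⊔ M₂ = ⊤ := by
      by_contra h
      have h1 : M₁ ⊔ M₂ = M₁ := (hM₁.le_iff.mp le_sup_left).resolve_left h
      have h2 : M₂ ≤ M₁ := h1 ▸ le_sup_right
      have h3 : M₁ = M₂ := (hM₂.le_iff.mp h2).resolve_left hM₁.1
      exact hne h3
    have hcen : ∀ w ∈ M₁ ⊓ M₂, ∀ g : G, w * g = g * w := by
      intro w hw g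
      have h1 : M₁ ⊔ M₂ ≤ Subgroup.centralizer ({w} : Set G) := by
        apply sup_le
        · intro a ha
          rw [Subgroup.mem_centralizer_iff]
          intro c hc
          rw [Set.mem_singleton_iff] at hc
          rw [hc]
          exact hM₁c w hw.1 a ha
        · intro a ha
          rw [Subgroup.mem_centralizer_iff]
          intro c hc
          rw [Set.mem_singleton_iff] at hc
          rw [hc]
          exact hM₂c w hw.2 a ha
      have h2 : g ∈ Subgroup.centralizer ({w} : Set G) := h1 (hsup ▸ Subgroup.mem_top g)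
      exact Subgroup.mem_centralizer_iff.mp h2 w (Set.mem_singleton w)
    obtain ⟨hc1, hp1⟩ := Lead.commutator_pow_mem_coatom hG M₁ hM₁
    obtain ⟨hc2, hp2'⟩ := Lead.commutator_pow_mem_coatom hG M₂ hM₂
    have hcomm_cen : ∀ u v g : G, ⁅u, v⁆ * g = g * ⁅u, v⁆ :=
      fun u v g => hcen _ ⟨hc1 u v, hc2 u v⟩ g
    have hpow_cen : ∀ u g : G, u ^ p * g = g * u ^ p := fun u g => hcen _ ⟨hp1 u, hp2' u⟩ g
    have hcp : ∀ u v : G, ⁅u, v⁆ ^ p = 1 := by
      intro u v
      rw [← comm_pow_class_two u v (hcomm_cen u v) p, commutatorElement_def, hpow_cen u v]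
      group
    have hmul : ∀ u v : G, (u * v) ^ p = u ^ p * v ^ p := by
      intro u v
      have hvu : v * u = ⁅v, u⁆ * u * v := by rw [commutatorElement_def]; group
      rw [mul_pow_class_two u v ⁅v, u⁆ hvu (hcomm_cen v u) p]
      obtain ⟨t, ht⟩ := hp.dvd_choose_self (k := 2) (by norm_num)
        (lt_of_le_of_ne hp.two_le (Ne.symm hp2))
      rw [ht, pow_mul, hcp, one_pow, mul_one]
    let φ : G →* G := { toFun := fun u => u ^ p, map_one' := one_pow p, map_mul' := hmul }
    have hpd : p ∣ Nat.card G := by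
      obtain ⟨k, hk⟩ := IsPGroup.iff_card.mp hG
      have hk0 : k ≠ 0 := by
        intro h0
        rw [h0, pow_zero] at hk
        haveI : Subsingleton G := (Nat.card_eq_one_iff_unique.mp hk).1
        exact hnc isCyclic_of_subsingleton
      rw [hk]
      exact dvd_pow_self p hk0
    obtain ⟨z, hz⟩ := exists_prime_orderOf_dvd_card' p hpd
    have hker : φ.ker ≤ Subgroup.zpowers z := by
      intro u hu
      have hup : u ^ p = 1 := hu
      by_cases hu1 : u = 1
      · rw [hu1]; exact Subgroup.one_mem _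
      · exact hU z u hz (orderOf_eq_prime hup hu1)
    have hkc : Nat.card φ.ker ≤ p := by
      have h1 := Subgroup.card_le_of_le hker
      rwa [Nat.card_zpowers, hz] at h1
    have hrange : φ.range ≤ Subgroup.center G := by
      rintro _ ⟨u, rfl⟩
      rw [Subgroup.mem_center_iff]
      intro g
      exact (hpow_cen u g).symm
    have h1 : Nat.card φ.ker * Nat.card φ.range = Nat.card G := by
      rw [← Subgroup.index_ker]; exact Subgroup.card_mul_index _
    have h2 : Nat.card G ≤ p * Nat.card (Subgroup.center G) := by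
      rw [← h1]
      exact Nat.mul_le_mul hkc (Subgroup.card_le_of_le hrange)
    have h3 : (Subgroup.center G).index ≤ p := by
      have h4 := Subgroup.card_mul_index (Subgroup.center G)
      rw [← h4, mul_comm p] at h2
      exact Nat.le_of_mul_le_mul_left h2 Nat.card_pos
    obtain ⟨k, hk⟩ := hG.index (Subgroup.center G)
    have hk1 : k ≤ 1 := by
      by_contra hlt
      push_neg at hlt
      have h5 : p ^ 2 ≤ p ^ k := Nat.pow_le_pow_right hp.pos hlt
      rw [← hk] at h5
      have h6 : p * p ≤ p := by rw [← pow_two]; exact h5.trans h3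
      have h7 := hp.two_le
      nlinarith
    have hk' : k = 0 ∨ k = 1 := by omega
    rcases hk' with hk0 | hk0
    · rw [hk0, pow_zero, Subgroup.index_eq_one] at hk
      have hxc : x ∈ Subgroup.center G := hk ▸ Subgroup.mem_top x
      exact hxy (Subgroup.mem_center_iff.mp hxc y).symm
    · rw [hk0, pow_one] at hk
      haveI : IsCyclic (G ⧸ Subgroup.center G) :=
        isCyclic_of_prime_card (p := p) ((Subgroup.index_eq_card (Subgroup.center G)).symm.trans hk)
      have h5 := MonoidHom.isMulCommutative_of_isCyclic_of_ker_le_center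
        (QuotientGroup.mk' (Subgroup.center G)) (by rw [QuotientGroup.ker_mk'])
      exact hxy (h5.is_comm.comm x y)

theorem uniq_invol {G : Type*} [Group G] [Finite G] (hU : UniqP 2 G) (u v : G)
    (hu : orderOf u = 2) (hv : orderOf v = 2) : u = v := by
  have h := hU u v hu hv
  obtain ⟨k, hk⟩ := (Submonoid.mem_powers_iff _ _).mp (mem_powers_iff_mem_zpowers.mpr h)
  rw [← pow_mod_orderOf, hu] at hk
  rcases Nat.mod_two_eq_zero_or_one k with h0 | h0
  · rw [h0, pow_zero] at hk
    rw [← hk, orderOf_one] at hv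
    norm_num at hv
  · rw [h0, pow_one] at hk
    exact hk

/-- in a `2`-group with a unique involution, an element `x` outside the cyclic normal subgroup
`⟨a⟩` with `x² ∈ ⟨a⟩` which does not centralize `a` inverts `a`, and `x²` is the involution -/
theorem inverts_of_uniq {G : Type*} [Group G] [Finite G] (hG : IsPGroup 2 G) (hU : UniqP 2 G)
    (a x : G) (hxa : x * a * x⁻¹ ∈ Subgroup.zpowers a)
    (hx : x ∉ Subgroup.zpowers a) (hx2 : x ^ 2 ∈ Subgroup.zpowers a) (hnc : x * a ≠ a * x) :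
    x * a * x⁻¹ = a⁻¹ ∧ orderOf (x ^ 2) = 2 := by
  haveI : Fact (Nat.Prime 2) := ⟨Nat.prime_two⟩
  have hAc : ∀ b ∈ Subgroup.zpowers a, ∀ c ∈ Subgroup.zpowers a, b * c = c * b := by
    intro b hb c hc
    obtain ⟨i, rfl⟩ := Subgroup.mem_zpowers_iff.mp hb
    obtain ⟨j, rfl⟩ := Subgroup.mem_zpowers_iff.mp hc
    rw [← zpow_add, ← zpow_add, add_comm]
  have hAx : ∀ b ∈ Subgroup.zpowers a, x * b * x⁻¹ ∈ Subgroup.zpowers a := by
    intro b hb
    obtain ⟨i, rfl⟩ := Subgroup.mem_zpowers_iff.mp hb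
    rw [← conj_zpow]
    exact (Subgroup.zpowers a).zpow_mem hxa i
  have ha1 : a ≠ 1 := by
    intro h
    apply hnc
    rw [h]; simp
  obtain ⟨z, hz⟩ : ∃ z : G, z = a ^ (orderOf a / 2) := ⟨_, rfl⟩
  have hzo : orderOf z = 2 := by
    rw [hz]
    exact orderOf_pow_orderOf_div (orderOf_pos a).ne' (dvd_orderOf_of_ne_one hG a ha1)
  have hzA : z ∈ Subgroup.zpowers a := by
    rw [hz]; exact (Subgroup.zpowers a).pow_mem (Subgroup.mem_zpowers a) _
  have hinvA : ∀ g : G, g ≠ 1 → g ^ 2 = 1 → g ∈ Subgroup.zpowers a := by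
    intro g hg1 hg2
    have h1 : orderOf g = 2 := orderOf_eq_prime hg2 hg1
    rw [← uniq_invol hU z g hzo h1]; exact hzA
  obtain ⟨s, hs⟩ := (Submonoid.mem_powers_iff _ _).mp (mem_powers_iff_mem_zpowers.mpr hx2)
  have hse : Even s := by
    by_contra hodd
    rw [Nat.not_even_iff_odd] at hodd
    obtain ⟨k, hk⟩ := orderOf_eq_pow_of_isPGroup hG a
    have hcop : Nat.Coprime s (orderOf a) := by
      rw [hk]; exact Nat.Coprime.pow_right k (Nat.coprime_two_right.mpr hodd)
    obtain ⟨m, hm⟩ := exists_pow_eq_self_of_coprime hcop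
    rw [hs] at hm
    apply hnc
    rw [← hm, ← pow_mul, ← pow_succ', ← pow_succ]
  obtain ⟨t, ht⟩ := hse
  obtain ⟨d, hd⟩ : ∃ d : G, d = a ^ t := ⟨_, rfl⟩
  have hdA : d ∈ Subgroup.zpowers a := by
    rw [hd]; exact (Subgroup.zpowers a).pow_mem (Subgroup.mem_zpowers a) t
  have hxd : x ^ 2 = d * d := by rw [← hs, ht, pow_add, hd]
  obtain ⟨d', hd'⟩ : ∃ d' : G, d' = x * d * x⁻¹ := ⟨_, rfl⟩
  have hd'A : d' ∈ Subgroup.zpowers a := by rw [hd']; exact hAx d hdA
  have hdd' : Commute d d' := hAc d hdA d' hd'A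
  have hd'2 : d' * d' = x ^ 2 := by
    calc d' * d' = x * (d * d) * x⁻¹ := by rw [hd']; group
      _ = x * x ^ 2 * x⁻¹ := by rw [hxd]
      _ = x ^ 2 := by group
  obtain ⟨y, hy⟩ : ∃ y : G, y = d⁻¹ * x := ⟨_, rfl⟩
  have hyA : y ∉ Subgroup.zpowers a := by
    intro h
    apply hx
    have e : x = d * y := by rw [hy]; group
    rw [e]; exact (Subgroup.zpowers a).mul_mem hdA h
  have hy2 : y ^ 2 = d'⁻¹ * d := by
    calc y ^ 2 = d⁻¹ * (x * d * x⁻¹)⁻¹ * x ^ 2 := by rw [hy, pow_two (d⁻¹ * x)]; group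
      _ = d⁻¹ * d'⁻¹ * (d * d) := by rw [hxd, hd']
      _ = d'⁻¹ * d⁻¹ * (d * d) := by rw [(hdd'.inv_inv).eq]
      _ = d'⁻¹ * d := by group
  have hy4 : (y ^ 2) ^ 2 = 1 := by
    rw [hy2, (hdd'.symm.inv_left).mul_pow, inv_pow, pow_two d', pow_two d, hd'2, ← hxd,
      inv_mul_cancel]
  have hy2ne : y ^ 2 ≠ 1 := by
    intro h
    have hy1 : y ≠ 1 := fun h1 => hyA (h1 ▸ (Subgroup.zpowers a).one_mem)
    exact hyA (hinvA y hy1 h)
  have hy2z : y ^ 2 = z := (uniq_invol hU z (y ^ 2) hzo (orderOf_eq_prime hy4 hy2ne)).symm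
  have hzz : z * z = 1 := by rw [← pow_two, ← hzo]; exact pow_orderOf_eq_one z
  have hAy : ∀ b ∈ Subgroup.zpowers a, y * b * y⁻¹ ∈ Subgroup.zpowers a := by
    intro b hb
    have e : y * b * y⁻¹ = d⁻¹ * (x * b * x⁻¹) * d := by rw [hy]; group
    rw [e]
    exact (Subgroup.zpowers a).mul_mem
      ((Subgroup.zpowers a).mul_mem ((Subgroup.zpowers a).inv_mem hdA) (hAx b hb)) hdA
  have hyinv : ∀ b ∈ Subgroup.zpowers a, y * b * y⁻¹ = b⁻¹ := by
    intro b hb
    by_contra hne
    obtain ⟨ν, hν⟩ : ∃ ν : G, ν = b * (y * b * y⁻¹) := ⟨_, rfl⟩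
    have hν1 : ν ≠ 1 := by
      intro h
      apply hne
      rw [hν] at h
      exact eq_inv_of_mul_eq_one_right h
    have hνm : orderOf (ν ^ (orderOf ν / 2)) = 2 :=
      orderOf_pow_orderOf_div (orderOf_pos ν).ne' (dvd_orderOf_of_ne_one hG ν hν1)
    have hνz : ν ^ (orderOf ν / 2) = z := (uniq_invol hU z _ hzo hνm).symm
    have hcomm : Commute b (y * b * y⁻¹) := hAc b hb _ (hAy b hb)
    have hνpow : ∀ m : ℕ, ν ^ m = b ^ m * (y * b ^ m * y⁻¹) := by
      intro m
      rw [hν, hcomm.mul_pow, conj_pow]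
    have hcy : (b ^ (orderOf ν / 2) * y) ^ 2 = 1 := by
      calc (b ^ (orderOf ν / 2) * y) ^ 2
          = b ^ (orderOf ν / 2) * (y * b ^ (orderOf ν / 2) * y⁻¹) * y ^ 2 := by
            rw [pow_two (b ^ (orderOf ν / 2) * y)]; group
        _ = z * z := by rw [← hνpow, hνz, hy2z]
        _ = 1 := hzz
    have hcyA : b ^ (orderOf ν / 2) * y ∉ Subgroup.zpowers a := by
      intro h
      apply hyA
      have e : y = (b ^ (orderOf ν / 2))⁻¹ * (b ^ (orderOf ν / 2) * y) := by group
      rw [e]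
      exact (Subgroup.zpowers a).mul_mem
        ((Subgroup.zpowers a).inv_mem ((Subgroup.zpowers a).pow_mem hb _)) h
    have hcy1 : b ^ (orderOf ν / 2) * y ≠ 1 := fun h => hcyA (h ▸ (Subgroup.zpowers a).one_mem)
    exact hcyA (hinvA _ hcy1 hcy)
  constructor
  · have e : x * a * x⁻¹ = d * (y * a * y⁻¹) * d⁻¹ := by rw [hy]; group
    rw [e, hyinv a (Subgroup.mem_zpowers a)]
    have h1 := hAc d hdA a⁻¹ ((Subgroup.zpowers a).inv_mem (Subgroup.mem_zpowers a))
    rw [h1]; group
  · have e : x ^ 2 = d * (y * d * y⁻¹) * y ^ 2 := by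
      rw [hy, pow_two (d⁻¹ * x), pow_two x]; group
    rw [e, hyinv d hdA, mul_inv_cancel, one_mul, hy2z]
    exact hzo

/-- a non-cyclic `2`-group with a unique involution is generalized quaternion -/
theorem quaternion_of_uniqP_two {G : Type*} [Group G] [Finite G] (hG : IsPGroup 2 G)
    (hU : UniqP 2 G) (hnc : ¬ IsCyclic G) : ∃ n : ℕ, Nonempty (G ≃* QuaternionGroup (2 ^ n)) := by
  classical
  haveI : Fact (Nat.Prime 2) := ⟨Nat.prime_two⟩
  obtain ⟨a, haN, hamax⟩ : ∃ a : G, (Subgroup.zpowers a).Normal ∧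
      ∀ b : G, (Subgroup.zpowers b).Normal → orderOf b ≤ orderOf a := by
    obtain ⟨a, ha, hmax⟩ := Set.exists_max_image {a : G | (Subgroup.zpowers a).Normal}
      (fun a => orderOf a) (Set.toFinite _)
      ⟨1, by rw [Set.mem_setOf_eq, Subgroup.zpowers_one_eq_bot]; exact Subgroup.normal_bot⟩
    exact ⟨a, ha, fun b hb => hmax b hb⟩
  haveI := haN
  have hAC' : Subgroup.zpowers a ≤ Subgroup.centralizer ((Subgroup.zpowers a : Subgroup G) : Set G) :=
    Subgroup.le_centralizer_iff_isMulCommutative.mpr (Subgroup.zpowers_isMulCommutative a)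
  -- the centralizer of `a` is `⟨a⟩`
  have hC : ∀ g : G, g * a = a * g → g ∈ Subgroup.zpowers a := by
    by_contra hcon
    push_neg at hcon
    obtain ⟨g₀, hg₀c, hg₀A⟩ := hcon
    haveI hCn : (Subgroup.centralizer ((Subgroup.zpowers a : Subgroup G) : Set G)).Normal :=
      Subgroup.normal_centralizer
    have hg₀C : g₀ ∈ Subgroup.centralizer ((Subgroup.zpowers a : Subgroup G) : Set G) := by
      rw [Subgroup.mem_centralizer_iff]
      intro h hh
      obtain ⟨i, rfl⟩ := Subgroup.mem_zpowers_iff.mp hh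
      have hc : Commute a g₀ := hg₀c.symm
      exact (hc.zpow_left i).eq
    have hNn : ((Subgroup.centralizer ((Subgroup.zpowers a : Subgroup G) : Set G)).map
        (QuotientGroup.mk' (Subgroup.zpowers a))).Normal :=
      Subgroup.Normal.map hCn _ (QuotientGroup.mk'_surjective _)
    have hNb : (Subgroup.centralizer ((Subgroup.zpowers a : Subgroup G) : Set G)).map
        (QuotientGroup.mk' (Subgroup.zpowers a)) ≠ ⊥ := by
      intro h
      have h1 : QuotientGroup.mk' (Subgroup.zpowers a) g₀ ∈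
          (Subgroup.centralizer ((Subgroup.zpowers a : Subgroup G) : Set G)).map
            (QuotientGroup.mk' (Subgroup.zpowers a)) := Subgroup.mem_map_of_mem _ hg₀C
      rw [h, Subgroup.mem_bot] at h1
      exact hg₀A ((QuotientGroup.eq_one_iff g₀).mp h1)
    haveI : Group.IsNilpotent (G ⧸ Subgroup.zpowers a) :=
      (hG.to_quotient (Subgroup.zpowers a)).isNilpotent
    have h1 := Lead.normal_inf_center_ne_bot _ hNb
    obtain ⟨q, hq, hq1⟩ : ∃ q ∈ (Subgroup.centralizer ((Subgroup.zpowers a : Subgroup G) : Set G)).map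
        (QuotientGroup.mk' (Subgroup.zpowers a)) ⊓ Subgroup.center (G ⧸ Subgroup.zpowers a),
        q ≠ 1 := by
      by_contra hcon
      push_neg at hcon
      exact h1 ((Subgroup.eq_bot_iff_forall _).mpr hcon)
    obtain ⟨hqC, hqZ⟩ := Subgroup.mem_inf.mp hq
    obtain ⟨y, hyC, rfl⟩ := Subgroup.mem_map.mp hqC
    have hyA : y ∉ Subgroup.zpowers a := fun h => hq1 ((QuotientGroup.eq_one_iff y).mpr h)
    have hcomA : ∀ g : G, g * y * g⁻¹ * y⁻¹ ∈ Subgroup.zpowers a := by
      intro g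
      apply (QuotientGroup.eq_one_iff _).mp
      have h2 := Subgroup.mem_center_iff.mp hqZ (QuotientGroup.mk g)
      have h3 : ((g * y * g⁻¹ * y⁻¹ : G) : G ⧸ Subgroup.zpowers a)
          = (QuotientGroup.mk g) * (QuotientGroup.mk' (Subgroup.zpowers a) y)
            * (QuotientGroup.mk g)⁻¹ * (QuotientGroup.mk' (Subgroup.zpowers a) y)⁻¹ := rfl
      rw [h3, h2]; group
    obtain ⟨B, hB⟩ : ∃ B : Subgroup G, B = Subgroup.zpowers a ⊔ Subgroup.zpowers y := ⟨_, rfl⟩
    have hAB : Subgroup.zpowers a ≤ B := by rw [hB]; exact le_sup_left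
    have hyB : y ∈ B := by rw [hB]; exact le_sup_right (a := Subgroup.zpowers a) (Subgroup.mem_zpowers y)
    have hBmap : ∀ g : G, B.map (MulAut.conj g).toMonoidHom ≤ B := by
      intro g
      rw [hB, Subgroup.map_sup, ← hB]
      apply sup_le
      · refine le_trans ?_ hAB
        rintro _ ⟨b, hb, rfl⟩
        exact haN.conj_mem b hb g
      · rw [MonoidHom.map_zpowers, Subgroup.zpowers_le]
        have e : (MulAut.conj g).toMonoidHom y = (g * y * g⁻¹ * y⁻¹) * y := by
          simp [mul_assoc]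
        rw [e]
        exact B.mul_mem (hAB (hcomA g)) hyB
    have hBn : B.Normal := by
      apply Subgroup.normalizer_eq_top_iff.mp
      rw [eq_top_iff]
      intro g _
      apply Lead.mem_normalizer_of_conj_le
      intro b hb
      exact hBmap g (Subgroup.mem_map.mpr ⟨b, hb, by simp⟩)
    have hyzC : Subgroup.zpowers y ≤ Subgroup.centralizer ((Subgroup.zpowers a : Subgroup G) : Set G) :=
      Subgroup.zpowers_le.mpr hyC
    have hBcent : B ≤ Subgroup.centralizer (B : Set G) := by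
      have h2 : B ≤ Subgroup.centralizer ((Subgroup.zpowers a : Subgroup G) : Set G) := by
        rw [hB]; exact sup_le hAC' hyzC
      have h3 : B ≤ Subgroup.centralizer ((Subgroup.zpowers y : Subgroup G) : Set G) := by
        rw [hB]
        exact sup_le (Subgroup.le_centralizer_iff.mp hyzC)
          (Subgroup.le_centralizer_iff_isMulCommutative.mpr (Subgroup.zpowers_isMulCommutative y))
      have h4 : Subgroup.zpowers a ⊔ Subgroup.zpowers y ≤ Subgroup.centralizer (B : Set G) :=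
        sup_le (Subgroup.le_centralizer_iff.mp h2) (Subgroup.le_centralizer_iff.mp h3)
      rw [← hB] at h4
      exact h4
    have hBcyc : IsCyclic ↥B := by
      apply isCyclic_of_comm_uniqP (hG.to_subgroup B) _ (uniqP_subgroup hU B)
      intro u v
      exact Subtype.ext (Subgroup.mem_centralizer_iff.mp (hBcent v.2) u u.2)
    obtain ⟨b, hb⟩ := isCyclic_iff_exists_zpowers_eq_top.mp hBcyc
    have hbB : Subgroup.zpowers (b : G) = B := by
      have h5 := congrArg (Subgroup.map B.subtype) hb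
      rw [MonoidHom.map_zpowers, ← MonoidHom.range_eq_map, Subgroup.range_subtype] at h5
      exact h5
    have hbn : (Subgroup.zpowers (b : G)).Normal := by rw [hbB]; exact hBn
    have h2 := hamax (b : G) hbn
    have hlt : Subgroup.zpowers a < B := lt_of_le_of_ne hAB (fun h => hyA (h ▸ hyB))
    have h3 := Helper6.card_lt_card_of_lt hlt
    rw [← hbB, Nat.card_zpowers, Nat.card_zpowers] at h3
    omega
  have hAtop : Subgroup.zpowers a ≠ ⊤ :=
    fun h => hnc (isCyclic_iff_exists_zpowers_eq_top.mpr ⟨a, h⟩)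
  have hinv : ∀ x : G, x ∉ Subgroup.zpowers a → x ^ 2 ∈ Subgroup.zpowers a →
      x * a * x⁻¹ = a⁻¹ ∧ orderOf (x ^ 2) = 2 := by
    intro x hx hx2
    apply inverts_of_uniq hG hU a x (haN.conj_mem a (Subgroup.mem_zpowers a) x) hx hx2
    intro h
    exact hx (hC x h)
  have hQp : IsPGroup 2 (G ⧸ Subgroup.zpowers a) := hG.to_quotient _
  obtain ⟨j, hj⟩ := IsPGroup.iff_card.mp hQp
  have hj0 : j ≠ 0 := by
    intro h
    rw [h, pow_zero, ← Subgroup.index_eq_card, Subgroup.index_eq_one] at hj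
    exact hAtop hj
  obtain ⟨qx, hqx⟩ := exists_prime_orderOf_dvd_card' (G := G ⧸ Subgroup.zpowers a) 2
    (by rw [hj]; exact dvd_pow_self 2 hj0)
  obtain ⟨x, rfl⟩ := QuotientGroup.mk_surjective qx
  have hmem_of : ∀ w : G, orderOf (QuotientGroup.mk w : G ⧸ Subgroup.zpowers a) = 2 →
      w ∉ Subgroup.zpowers a ∧ w ^ 2 ∈ Subgroup.zpowers a := by
    intro w hw
    constructor
    · intro h
      have h1 : (QuotientGroup.mk w : G ⧸ Subgroup.zpowers a) = 1 :=
        (QuotientGroup.eq_one_iff w).mpr h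
      rw [h1, orderOf_one] at hw
      norm_num at hw
    · have h1 := pow_orderOf_eq_one (QuotientGroup.mk w : G ⧸ Subgroup.zpowers a)
      rw [hw, ← QuotientGroup.mk_pow] at h1
      exact (QuotientGroup.eq_one_iff _).mp h1
  obtain ⟨hxA, hx2A⟩ := hmem_of x hqx
  obtain ⟨hxa, hx2o⟩ := hinv x hxA hx2A
  -- `a² ≠ 1`
  have ha2 : a ^ 2 ≠ 1 := by
    intro h
    apply hxA
    apply hC
    have h1 : a⁻¹ = a := by
      rw [pow_two] at h
      exact inv_eq_of_mul_eq_one_left h
    rw [h1] at hxa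
    calc x * a = x * a * x⁻¹ * x := by group
      _ = a * x := by rw [hxa]
  obtain ⟨k, hk⟩ := orderOf_eq_pow_of_isPGroup hG a
  have hk2 : 2 ≤ k := by
    by_contra hlt
    push_neg at hlt
    apply ha2
    apply orderOf_dvd_iff_pow_eq_one.mp
    rw [hk]
    interval_cases k <;> simp
  have h4dvd : 4 ∣ orderOf a := by
    rw [hk]
    exact pow_dvd_pow 2 hk2
  -- the index of `⟨a⟩` is `2`
  have hidx : Nat.card (G ⧸ Subgroup.zpowers a) = 2 := by
    by_contra hne
    have huq : ∀ q : G ⧸ Subgroup.zpowers a, orderOf q = 2 → q = QuotientGroup.mk x := by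
      intro q hq
      obtain ⟨y, rfl⟩ := QuotientGroup.mk_surjective q
      obtain ⟨hyA, hy2A⟩ := hmem_of y hq
      obtain ⟨hya, -⟩ := hinv y hyA hy2A
      have h1 : (x⁻¹ * y) * a = a * (x⁻¹ * y) := by
        have e1 : y * a = a⁻¹ * y := by rw [← hya]; group
        have e2 : x⁻¹ * a⁻¹ = a * x⁻¹ := by rw [← hxa]; group
        calc x⁻¹ * y * a = x⁻¹ * (y * a) := by group
          _ = x⁻¹ * (a⁻¹ * y) := by rw [e1]
          _ = (x⁻¹ * a⁻¹) * y := by group
          _ = a * x⁻¹ * y := by rw [e2]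
          _ = a * (x⁻¹ * y) := by group
      exact (QuotientGroup.eq.mpr (hC _ h1)).symm
    have hex : ∃ u : G ⧸ Subgroup.zpowers a, u ^ 2 ≠ 1 := by
      by_contra hcon
      push_neg at hcon
      have hall : ∀ u : G ⧸ Subgroup.zpowers a, u = 1 ∨ u = QuotientGroup.mk x := by
        intro u
        by_cases hu : u = 1
        · left; exact hu
        · right; exact huq u (orderOf_eq_prime (hcon u) hu)
      have hle : Nat.card (G ⧸ Subgroup.zpowers a) ≤ 2 := by
        have hsurj : Function.Surjective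
            (fun b : Bool => if b then (QuotientGroup.mk x : G ⧸ Subgroup.zpowers a) else 1) := by
          intro u
          rcases hall u with h | h
          · exact ⟨false, by simp [h]⟩
          · exact ⟨true, by simp [h]⟩
        have h5 := Nat.card_le_card_of_surjective _ hsurj
        have hb2 : Nat.card Bool = 2 := by rw [Nat.card_eq_fintype_card, Fintype.card_bool]
        rw [hb2] at h5
        exact h5
      rw [hj] at hle hne
      have hj1 : j ≤ 1 := by
        by_contra hlt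
        push_neg at hlt
        have h6 : 2 ^ 2 ≤ 2 ^ j := Nat.pow_le_pow_right (by norm_num) hlt
        omega
      have hj' : j = 1 := by omega
      rw [hj', pow_one] at hne
      exact hne rfl
    obtain ⟨u, hu⟩ := hex
    obtain ⟨v, hv⟩ : ∃ v : G ⧸ Subgroup.zpowers a, orderOf (v ^ 2) = 2 := by
      obtain ⟨i, hi⟩ := orderOf_eq_pow_of_isPGroup hQp u
      have hi2 : 2 ≤ i := by
        by_contra hlt
        push_neg at hlt
        apply hu
        apply orderOf_dvd_iff_pow_eq_one.mp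
        rw [hi]
        interval_cases i <;> simp
      refine ⟨u ^ (2 ^ (i - 2)), ?_⟩
      rw [← pow_mul]
      have e : 2 ^ (i - 2) * 2 = orderOf u / 2 := by
        rw [hi, ← pow_succ]
        have e2 : i - 2 + 1 = i - 1 := by omega
        rw [e2]
        have e3 : (2 : ℕ) ^ i = 2 ^ (i - 1) * 2 := by
          rw [← pow_succ]; congr 1; omega
        rw [e3, Nat.mul_div_cancel _ (by norm_num : 0 < 2)]
      rw [e]
      exact orderOf_pow_orderOf_div (orderOf_pos u).ne' (by rw [hi]; exact dvd_pow_self 2 (by omega))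
    obtain ⟨w, rfl⟩ := QuotientGroup.mk_surjective v
    have hv' : orderOf (QuotientGroup.mk (w ^ 2) : G ⧸ Subgroup.zpowers a) = 2 := by
      rw [QuotientGroup.mk_pow]; exact hv
    obtain ⟨hyA, hy2A⟩ := hmem_of (w ^ 2) hv'
    obtain ⟨hya, -⟩ := hinv (w ^ 2) hyA hy2A
    obtain ⟨r, hr⟩ := (Submonoid.mem_powers_iff _ _).mp
      (mem_powers_iff_mem_zpowers.mpr (haN.conj_mem a (Subgroup.mem_zpowers a) w))
    have h4 : a ^ (r * r) = a⁻¹ := by
      rw [← hya, pow_mul, hr, conj_pow, hr, pow_two]; group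
    have h5 : a ^ (r * r + 1) = 1 := by rw [pow_succ, h4, inv_mul_cancel]
    have h6 := orderOf_dvd_of_pow_eq_one h5
    have h8 : 4 ∣ r * r + 1 := h4dvd.trans h6
    have h9 : (r * r + 1) % 4 = 0 := Nat.mod_eq_zero_of_dvd h8
    have h11 : (r * r + 1) % 4 = ((r % 4) * (r % 4) + 1) % 4 := by
      simp [Nat.add_mod, Nat.mul_mod]
    rw [h11] at h9
    have h10 : r % 4 < 4 := Nat.mod_lt _ (by norm_num)
    generalize r % 4 = s at h9 h10
    interval_cases s <;> omega
  have hord : orderOf a = 2 * 2 ^ (k - 1) := by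
    rw [hk, ← pow_succ']; congr 1; omega
  have hn2 : 2 ≤ 2 ^ (k - 1) := by
    calc 2 = 2 ^ 1 := rfl
      _ ≤ 2 ^ (k - 1) := Nat.pow_le_pow_right (by norm_num) (by omega)
  have ha1 : a ^ (2 * 2 ^ (k - 1)) = 1 := by rw [← hord]; exact pow_orderOf_eq_one a
  have han : orderOf (a ^ 2 ^ (k - 1)) = 2 := by
    have h1 := orderOf_pow_orderOf_div (x := a) (n := 2) (orderOf_pos a).ne'
      (by rw [hord]; exact dvd_mul_right 2 _)
    rw [hord, Nat.mul_div_cancel_left _ (by norm_num : 0 < 2)] at h1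
    exact h1
  have hx2 : x ^ 2 = a ^ 2 ^ (k - 1) := uniq_invol hU _ _ hx2o han
  have hflip : a * x * a = x := by
    have h1 : x * a = a⁻¹ * x := by rw [← hxa]; group
    calc a * x * a = a * (x * a) := by group
      _ = a * (a⁻¹ * x) := by rw [h1]
      _ = x := by group
  have hf : Function.Injective (Lead.quatHom (2 ^ (k - 1)) a x ha1 hx2 hflip) :=
    Lead.quatHom_injective (2 ^ (k - 1)) a x ha1 hx2 hflip hord hn2
  have hcardG : Nat.card G = 4 * 2 ^ (k - 1) := by
    have h1 := Subgroup.card_eq_card_quotient_mul_card_subgroup (Subgroup.zpowers a)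
    rw [hidx, Nat.card_zpowers, hord] at h1
    omega
  haveI : NeZero (2 ^ (k - 1)) := ⟨by positivity⟩
  have hbij : Function.Bijective (Lead.quatHom (2 ^ (k - 1)) a x ha1 hx2 hflip) := by
    rw [Nat.bijective_iff_injective_and_card]
    refine ⟨hf, ?_⟩
    rw [hcardG, Nat.card_eq_fintype_card, QuaternionGroup.card]
  exact ⟨k - 1, ⟨(MulEquiv.ofBijective _ hbij).symm⟩⟩

/-- **A finite `p`-group with only one subgroup of order `p` is cyclic or generalized
quaternion** (the statement of S0016). -/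
theorem cyclic_or_quaternion_of_unique_subgroup {G : Type*} [Group G] [Finite G] (p : ℕ)
    [Fact p.Prime] (hG : IsPGroup p G)
    (huniq : ∀ H K : Subgroup G, Nat.card H = p → Nat.card K = p → H = K) :
    IsCyclic G ∨ (p = 2 ∧ ∃ n : ℕ, Nonempty (G ≃* QuaternionGroup (2 ^ n))) := by
  have hU : UniqP p G := by
    intro x y hx hy
    have h := huniq (Subgroup.zpowers x) (Subgroup.zpowers y) (by rw [Nat.card_zpowers, hx])
      (by rw [Nat.card_zpowers, hy])
    rw [h]; exact Subgroup.mem_zpowers y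
  by_cases hp2 : p = 2
  · subst hp2
    by_cases hc : IsCyclic G
    · left; exact hc
    · right; exact ⟨rfl, quaternion_of_uniqP_two hG hU hc⟩
  · left
    exact isCyclic_of_uniqP_odd_aux hp2 _ G rfl hG hU

end Cfsg.Agent.Lib.Helper5
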